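import Mathlib
import Groth.Agent.SiteCohomology.ClosedPush
import Groth.Agent.SiteCohomology.Flasque

/-!
Direct images along closed maps with separated fibres: exactness and fibres.
-/

set_option autoImplicit false
universe u

open CategoryTheory CategoryTheory.Limits Opposite TopologicalSpace
open Groth.SiteCohomology

namespace Groth.Agent.CohDescent

variable {S T T' : TopCat.{u}}

/-- A closed map whose fibre points have pairwise disjoint open neighbourhoods. -/
structure IsClosedSepFibres (g : T ⟶ S) : Prop where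
  closed : IsClosedMap g
  sep : ∀ x : S, ∃ W : {y : T // g y = x} → Opens T, (∀ y, y.1 ∈ W y) ∧ Pairwise (fun a b => W a ⊓ W b = ⊥)

/-- The germ map. -/
noncomputable abbrev gm (F : CohTop.Ab S) (x : S) (U : Opens S) (hx : x ∈ U) : F.obj.obj (op U) ⟶ (sfib x).obj F :=
  (Opens.pointGrothendieckTopology x).toPresheafFiber U ⟨⟨hx⟩⟩ F.obj

lemma gm_surjective (F : CohTop.Ab S) (x : S) (a : (sfib x).obj F) :
    ∃ (U : Opens S) (hx : x ∈ U) (s : F.obj.obj (op U)), gm F x U hx s = a := by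
  obtain ⟨U, hx, s, h⟩ := (Opens.pointGrothendieckTopology x).toPresheafFiber_jointly_surjective a
  exact ⟨U, hx.down.down, s, h⟩

lemma gm_res (F : CohTop.Ab S) (x : S) {U V : Opens S} (h : V ≤ U) (hx : x ∈ V) (s : F.obj.obj (op U)) :
    gm F x V hx (F.obj.map (homOfLE h).op s) = gm F x U (h hx) s :=
  (Opens.pointGrothendieckTopology x).toPresheafFiber_w_apply (homOfLE h) ⟨⟨hx⟩⟩ F.obj s

lemma gm_eq (F : CohTop.Ab S) (x : S) {U : Opens S} (hx : x ∈ U) (s t : F.obj.obj (op U))
    (h : gm F x U hx s = gm F x U hx t) :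
    ∃ (V : Opens S) (hV : V ≤ U), x ∈ V ∧ F.obj.map (homOfLE hV).op s = F.obj.map (homOfLE hV).op t := by
  obtain ⟨V, f, y, -, e⟩ := ((Opens.pointGrothendieckTopology x).toPresheafFiber_eq_iff' U _ _ _).1 h
  exact ⟨V, f.le, y.down.down, e⟩

lemma gm_map {F G : CohTop.Ab S} (φ : F ⟶ G) (x : S) (U : Opens S) (hx : x ∈ U) (s : F.obj.obj (op U)) :
    (sfib x).map φ (gm F x U hx s) = gm G x U hx (φ.hom.app (op U) s) :=
  ConcreteCategory.congr_hom ((Opens.pointGrothendieckTopology x).toPresheafFiber_naturality φ.hom U ⟨⟨hx⟩⟩) s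

lemma res_res (G : CohTop.Ab T) {A B C : (Opens T)ᵒᵖ} (f : A ⟶ B) (k : B ⟶ C) (h : A ⟶ C) (s : G.obj.obj A) :
    G.obj.map k (G.obj.map f s) = G.obj.map h s := by
  rw [← ConcreteCategory.comp_apply, ← G.obj.map_comp]
  exact congrArg (fun m => G.obj.map m s) (Subsingleton.elim _ _)

variable (g : T ⟶ S)

/-- The fibre of a direct image maps to the fibres at points of the preimage. -/
noncomputable def pushGerm {x : S} {y : T} (h : g y = x) (G : CohTop.Ab T) :
    (sfib x).obj ((CohTop.push g).obj G) ⟶ (sfib y).obj G :=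
  (Opens.pointGrothendieckTopology x).presheafFiberDesc
    (fun U hx => gm G y ((Opens.map g).obj U) (by subst h; exact hx.down.down))
    (fun {U V} f hx => by
      refine ConcreteCategory.hom_ext _ _ fun s => ?_
      exact gm_res G y ((Opens.map g).map f).le _ s)

lemma pushGerm_gm {x : S} {y : T} (h : g y = x) (G : CohTop.Ab T) (U : Opens S) (hx : x ∈ U)
    (s : G.obj.obj (op ((Opens.map g).obj U))) :
    pushGerm g h G (gm ((CohTop.push g).obj G) x U hx s) = gm G y ((Opens.map g).obj U) (by subst h; exact hx) s :=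
  ConcreteCategory.congr_hom (show gm ((CohTop.push g).obj G) x U hx ≫ pushGerm g h G =
      gm G y ((Opens.map g).obj U) (by subst h; exact hx) by
    unfold pushGerm
    exact colimit.ι_desc _ _) s

variable {g} (hg : IsClosedSepFibres g)
include hg

/-- Open sets containing a fibre contain the preimage of a neighbourhood. -/
lemma exists_nhd_preimage_le {x : S} (Ω : Opens T) (hΩ : ∀ y, g y = x → y ∈ Ω) :
    ∃ V : Opens S, x ∈ V ∧ (Opens.map g).obj V ≤ Ω := by
  refine ⟨⟨(g '' (Ω : Set T)ᶜ)ᶜ, (hg.closed _ Ω.2.isClosed_compl).isOpen_compl⟩, ?_, fun y hy => ?_⟩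
  · rintro ⟨y, hy, rfl⟩
    exact hy (hΩ y rfl)
  · by_contra h
    exact hy ⟨y, h, rfl⟩

theorem pushGerm_jointly_injective (x : S) (G : CohTop.Ab T) (a b : (sfib x).obj ((CohTop.push g).obj G))
    (h : ∀ y (hy : g y = x), pushGerm g hy G a = pushGerm g hy G b) : a = b := by
  obtain ⟨U, hxU, s, rfl⟩ := gm_surjective _ x a
  obtain ⟨U', hxU', t, rfl⟩ := gm_surjective _ x b
  have hxI : x ∈ U ⊓ U' := ⟨hxU, hxU'⟩
  rw [← gm_res _ x (inf_le_left : U ⊓ U' ≤ U) hxI, ← gm_res _ x (inf_le_right : U ⊓ U' ≤ U') hxI] at h ⊢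
  generalize (((CohTop.push g).obj G).obj.map (homOfLE (inf_le_left : U ⊓ U' ≤ U)).op) s = s' at h ⊢
  generalize (((CohTop.push g).obj G).obj.map (homOfLE (inf_le_right : U ⊓ U' ≤ U')).op) t = t' at h ⊢
  let I := (Opens.map g).obj (U ⊓ U')
  have key : ∀ y : {y : T // g y = x}, ∃ (V : Opens T) (hV : V ≤ I), y.1 ∈ V ∧
      G.obj.map (homOfLE hV).op s' = G.obj.map (homOfLE hV).op t' := fun ⟨y, hy⟩ => by
    refine gm_eq G y (by subst hy; exact hxI) s' t' ?_
    rw [← pushGerm_gm g hy G _ hxI, ← pushGerm_gm g hy G _ hxI]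
    exact h y hy
  choose V hV hyV e using key
  obtain ⟨V₀, hxV₀, hle⟩ := exists_nhd_preimage_le hg (x := x) (⨆ y, V y) fun y hy =>
    Opens.mem_iSup.2 ⟨⟨y, hy⟩, hyV ⟨y, hy⟩⟩
  let Vf := V₀ ⊓ (U ⊓ U')
  rw [← gm_res _ x (inf_le_right : Vf ≤ U ⊓ U') ⟨hxV₀, hxI⟩ s',
    ← gm_res _ x (inf_le_right : Vf ≤ U ⊓ U') ⟨hxV₀, hxI⟩ t']
  congr 1
  refine TopCat.Sheaf.eq_of_locally_eq' (F := (G : TopCat.Sheaf AddCommGrpCat T))
    (fun y => V y ⊓ (Opens.map g).obj Vf) ((Opens.map g).obj Vf) (fun y => homOfLE inf_le_right) ?_ _ _ fun y => ?_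
  · intro z hz
    obtain ⟨y, hy⟩ := Opens.mem_iSup.1 (hle hz.1)
    exact Opens.mem_iSup.2 ⟨y, hy, hz⟩
  · have e' := congrArg (G.obj.map (homOfLE (inf_le_left : V y ⊓ (Opens.map g).obj Vf ≤ V y)).op) (e y)
    have hle' : V y ⊓ (Opens.map g).obj Vf ≤ I := inf_le_left.trans (hV y)
    exact ((res_res G _ _ (homOfLE hle').op s').trans (res_res G _ _ (homOfLE hle').op s').symm).trans
      (e'.trans ((res_res G _ _ (homOfLE hle').op t').trans (res_res G _ _ (homOfLE hle').op t').symm))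

theorem exists_glue_fibre (x : S) (G : CohTop.Ab T) (a : ∀ y (_ : g y = x), (sfib y).obj G) :
    ∃ b : (sfib x).obj ((CohTop.push g).obj G), ∀ y (hy : g y = x), pushGerm g hy G b = a y hy := by
  obtain ⟨W, hyW, hW⟩ := hg.sep x
  have key : ∀ y : {y : T // g y = x}, ∃ (V : Opens T) (_ : V ≤ W y) (hy : y.1 ∈ V) (s : G.obj.obj (op V)),
      gm G y.1 V hy s = a y.1 y.2 := fun y => by
    obtain ⟨U, hU, s, hs⟩ := gm_surjective G y.1 (a y.1 y.2)
    exact ⟨U ⊓ W y, inf_le_right, ⟨hU, hyW y⟩, G.obj.map (homOfLE inf_le_left).op s,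
      (gm_res G y.1 inf_le_left ⟨hU, hyW y⟩ s).trans hs⟩
  choose V hVW hyV s hs using key
  have hcomp : TopCat.Presheaf.IsCompatible G.obj V s := fun i j => by
    by_cases hij : i = j
    · subst hij; rfl
    · exact @Subsingleton.elim _ (subsingleton_sections_of_le_bot G _
        ((inf_le_inf (hVW i) (hVW j)).trans (hW hij).le)) _ _
  obtain ⟨t, ht, -⟩ := TopCat.Sheaf.existsUnique_gluing (F := (G : TopCat.Sheaf AddCommGrpCat T)) V s hcomp
  obtain ⟨V₀, hxV₀, hle⟩ := exists_nhd_preimage_le hg (x := x) (iSup V) fun y hy =>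
    Opens.mem_iSup.2 ⟨⟨y, hy⟩, hyV ⟨y, hy⟩⟩
  refine ⟨gm ((CohTop.push g).obj G) x V₀ hxV₀ (G.obj.map (homOfLE hle).op t), fun y hy => ?_⟩
  rw [pushGerm_gm, gm_res, ← hs ⟨y, hy⟩, ← ht ⟨y, hy⟩]
  exact (gm_res G y (le_iSup V ⟨y, hy⟩) (hyV ⟨y, hy⟩) t).symm

theorem preservesEpimorphisms_push : (CohTop.push g).PreservesEpimorphisms := by
  refine ⟨fun {F G} φ hφ => ?_⟩
  have hloc : Sheaf.IsLocallySurjective φ := (Sheaf.isLocallySurjective_iff_epi' _ φ).2 hφ
  refine (Sheaf.isLocallySurjective_iff_epi' _ _).1 ⟨fun {U} s x hx => ?_⟩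
  obtain ⟨W, hyW, hW⟩ := hg.sep x
  have key : ∀ y : {y : T // g y = x}, ∃ (V : Opens T) (_ : V ≤ W y) (hVU : V ≤ (Opens.map g).obj U)
      (_ : y.1 ∈ V) (t : F.obj.obj (op V)), φ.hom.app (op V) t = G.obj.map (homOfLE hVU).op s := by
    rintro ⟨y, hy⟩
    obtain ⟨V, k, ⟨t, ht⟩, hyV⟩ := Presheaf.imageSieve_mem (Opens.grothendieckTopology T) φ.hom
      (U := op ((Opens.map g).obj U)) s y (by subst hy; exact hx)
    refine ⟨V ⊓ W ⟨y, hy⟩, inf_le_right, inf_le_left.trans k.le, ⟨hyV, hyW _⟩,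
      F.obj.map (homOfLE inf_le_left).op t, ?_⟩
    refine (NatTrans.naturality_apply φ.hom _ t).trans ?_
    rw [ht, ← ConcreteCategory.comp_apply, ← G.obj.map_comp]
    rfl
  choose V hVW hVU hyV t ht using key
  have hcomp : TopCat.Presheaf.IsCompatible F.obj V t := fun i j => by
    by_cases hij : i = j
    · subst hij; rfl
    · exact @Subsingleton.elim _ (subsingleton_sections_of_le_bot F _
        ((inf_le_inf (hVW i) (hVW j)).trans (hW hij).le)) _ _
  obtain ⟨τ, hτ, -⟩ := TopCat.Sheaf.existsUnique_gluing (F := (F : TopCat.Sheaf AddCommGrpCat T)) V t hcomp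
  obtain ⟨V₀, hxV₀, hle⟩ := exists_nhd_preimage_le hg (x := x) (iSup V) fun y hy =>
    Opens.mem_iSup.2 ⟨⟨y, hy⟩, hyV ⟨y, hy⟩⟩
  refine ⟨V₀ ⊓ U, homOfLE inf_le_right,
    ⟨F.obj.map (homOfLE (show (Opens.map g).obj (V₀ ⊓ U) ≤ iSup V from fun z hz => hle hz.1)).op τ, ?_⟩,
    ⟨hxV₀, hx⟩⟩
  change φ.hom.app (op ((Opens.map g).obj (V₀ ⊓ U))) _ =
    G.obj.map (homOfLE (show (Opens.map g).obj (V₀ ⊓ U) ≤ (Opens.map g).obj U from fun z hz => hz.2)).op s
  refine TopCat.Sheaf.eq_of_locally_eq' (F := (G : TopCat.Sheaf AddCommGrpCat T))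
    (fun y => V y ⊓ (Opens.map g).obj (V₀ ⊓ U)) _ (fun y => homOfLE inf_le_right) ?_ _ _ fun y => ?_
  · intro z hz
    obtain ⟨y, hy⟩ := Opens.mem_iSup.1 (hle hz.1)
    exact Opens.mem_iSup.2 ⟨y, hy, hz⟩
  · have e := congrArg (G.obj.map (homOfLE (inf_le_left : V y ⊓ (Opens.map g).obj (V₀ ⊓ U) ≤ V y)).op) (ht y)
    rw [← hτ y] at e
    have hle' : V y ⊓ (Opens.map g).obj (V₀ ⊓ U) ≤ (Opens.map g).obj U := inf_le_left.trans (hVU y)
    have hle'' : V y ⊓ (Opens.map g).obj (V₀ ⊓ U) ≤ iSup V := inf_le_left.trans (le_iSup V y)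
    have e2 : G.obj.map (homOfLE hle'').op (φ.hom.app (op (iSup V)) τ) = G.obj.map (homOfLE hle').op s :=
      ((res_res G (Opens.leSupr V y).op (homOfLE inf_le_left).op (homOfLE hle'').op _).symm.trans
        ((congrArg (G.obj.map _) (NatTrans.naturality_apply φ.hom (Opens.leSupr V y).op τ).symm).trans e)).trans
        (res_res G _ _ (homOfLE hle').op s)
    refine Eq.trans ?_ (e2.trans (res_res G _ _ (homOfLE hle').op s).symm)
    refine (congrArg (G.obj.map _) (NatTrans.naturality_apply φ.hom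
      (homOfLE (show (Opens.map g).obj (V₀ ⊓ U) ≤ iSup V from fun z hz => hle hz.1)).op τ)).trans ?_
    exact res_res G _ _ (homOfLE hle'').op _

theorem preservesFiniteColimits_push : PreservesFiniteColimits (CohTop.push g) := by
  haveI := preservesEpimorphisms_push hg
  haveI : PreservesFiniteLimits (CohTop.push g) :=
    (pullPushAdj g).rightAdjoint_preservesLimits.{0, 0}.preservesFiniteLimits
  exact preservesFiniteColimits_of_preservesEpi _

omit hg

variable (g)

/-- The comparison of the fibres of a sheaf and of its inverse image. -/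
noncomputable def tau {x : S} {y : T} (h : g y = x) (F : CohTop.Ab S) :
    (sfib x).obj F ⟶ (sfib y).obj ((CohTop.pull g).obj F) :=
  (sfib x).map ((pullPushAdj g).unit.app F) ≫ pushGerm g h _

section Skyscraper

open GrothendieckTopology

variable {C : Type u} [SmallCategory C] {J : GrothendieckTopology C} (P : Point.{u} J)

lemma toPresheafFiber_skyscraper_counit (M : AddCommGrpCat.{u}) (X : C) (x : P.fiber.obj X) :
    P.toPresheafFiber X x (P.skyscraperSheaf M).obj ≫ P.skyscraperSheafAdjunction.counit.app M =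
      Pi.π (fun _ : P.fiber.obj X => M) x := by
  rw [show P.skyscraperSheafAdjunction.counit.app M = (P.skyscraperSheafAdjunction.homEquiv _ _).symm
    (𝟙 (P.skyscraperSheaf M)) by simp [Adjunction.homEquiv_counit]]
  refine (congrArg (fun m => P.toPresheafFiber X x _ ≫ m) (P.skyscraperSheafAdjunction_homEquiv_symm_apply _)).trans ?_
  exact (P.toPresheafFiber_skyscraperPresheafHomEquiv_symm _ _ _).trans (Category.id_comp _)

lemma skyscraper_unit_app_π (G : Sheaf J AddCommGrpCat.{u}) (X : C) (x : P.fiber.obj X) :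
    (P.skyscraperSheafAdjunction.unit.app G).hom.app (op X) ≫ Pi.π (fun _ : P.fiber.obj X => P.sheafFiber.obj G) x =
      P.toPresheafFiber X x G.obj := by
  rw [show P.skyscraperSheafAdjunction.unit.app G = P.skyscraperSheafAdjunction.homEquiv _ _
    (𝟙 (P.sheafFiber.obj G)) by simp [Adjunction.homEquiv_unit]]
  refine (congrArg (fun m : G.obj ⟶ _ => m.app (op X) ≫ Pi.π (fun _ : P.fiber.obj X => P.sheafFiber.obj G) x)
    (P.skyscraperSheafAdjunction_homEquiv_apply_hom _)).trans ?_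
  exact (P.skyscraperPresheafHomEquiv_app_π _ _ _).trans (Category.comp_id _)

end Skyscraper

theorem isIso_tau {x : S} {y : T} (h : g y = x) (F : CohTop.Ab S) : IsIso (tau g h F) := by
  subst h
  have : tau g (rfl : g y = g y) F = (sfibPullIso g y).hom.app F := by
    refine (Opens.pointGrothendieckTopology (g y)).presheafFiber_hom_ext fun U hx => ?_
    let Py := Opens.pointGrothendieckTopology y
    let P' := Py.comap (Opens.map g) (coverPreserving_opens_map g)
    let G := (CohTop.pull g).obj F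
    let V := (Opens.map g).obj U
    let η := (pullPushAdj g).unit.app F
    let e := (CohTop.push g).map (Py.skyscraperSheafAdjunction.unit.app G)
    have hl : (Opens.pointGrothendieckTopology (g y)).toPresheafFiber U hx F.obj ≫ tau g rfl F =
        η.hom.app (op U) ≫ gm G y V hx.down.down := by
      refine ConcreteCategory.hom_ext _ _ fun s => ?_
      refine (congrArg (pushGerm g rfl _) (gm_map η _ U hx.down.down s)).trans ?_
      exact pushGerm_gm g rfl _ _ _ _
    have hr : P'.toPresheafFiber U hx F.obj ≫ P'.sheafFiber.map η ≫ P'.sheafFiber.map e ≫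
        P'.skyscraperSheafAdjunction.counit.app (Py.sheafFiber.obj G) =
        η.hom.app (op U) ≫ gm G y V hx.down.down := by
      refine (P'.toPresheafFiber_naturality_assoc η.hom U hx _).trans ?_
      refine congrArg (η.hom.app (op U) ≫ ·) ?_
      refine (P'.toPresheafFiber_naturality_assoc e.hom U hx _).trans ?_
      refine (congrArg (e.hom.app (op U) ≫ ·) (toPresheafFiber_skyscraper_counit P' (Py.sheafFiber.obj G) U hx)).trans ?_
      exact skyscraper_unit_app_π Py G V hx
    refine hl.trans (hr.symm.trans ?_)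
    refine congrArg (P'.toPresheafFiber U hx F.obj ≫ ·) ?_
    simp [sfibPullIso, GrothendieckTopology.Point.sheafFiberComapIso, conjugateIsoEquiv, conjugateEquiv,
      mateEquiv, P', Py, η, e, G, GrothendieckTopology.Point.skyscraperSheafFunctorCompSheafPushforwardContinuous]
    erw [CategoryTheory.Functor.map_id, Category.id_comp, Category.id_comp]
    rfl
  rw [this]
  infer_instance

end Groth.Agent.CohDescent
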