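import Groth.Agent.DerivedCoh.KInj.Resolution
import Mathlib.Algebra.Homology.DerivedCategory.KInjective
import Mathlib.CategoryTheory.EssentiallySmall

/-!
The derived category of a Grothendieck abelian category has small morphism types.
-/

set_option autoImplicit false
universe v u

open CategoryTheory CategoryTheory.Limits

namespace Groth.Agent.CohDescent

attribute [local instance] HasDerivedCategory.standard

variable (A : Type u) [Category.{v} A] [Abelian A] [IsGrothendieckAbelian.{v} A]

theorem small_hom (X Y : DerivedCategory A) : Small.{v} (X ⟶ Y) := by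
  let K := DerivedCategory.Q.objPreimage X
  let L := DerivedCategory.Q.objPreimage Y
  obtain ⟨I, i, -, hi, hI, -⟩ := Groth.DerivedCoh.KInjRes.exists_resolution L
  let e : Y ≅ DerivedCategory.Qh.obj ((HomotopyCategory.quotient A (ComplexShape.up ℤ)).obj I) :=
    (DerivedCategory.Q.objObjPreimageIso Y).symm ≪≫ asIso (DerivedCategory.Q.map i) ≪≫
      (DerivedCategory.quotientCompQhIso A).symm.app I
  let d : DerivedCategory.Qh.obj ((HomotopyCategory.quotient A (ComplexShape.up ℤ)).obj K) ≅ X :=
    (DerivedCategory.quotientCompQhIso A).app K ≪≫ DerivedCategory.Q.objObjPreimageIso X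
  refine small_of_surjective (f := fun g : (HomotopyCategory.quotient A (ComplexShape.up ℤ)).obj K ⟶
      (HomotopyCategory.quotient A (ComplexShape.up ℤ)).obj I => d.inv ≫ DerivedCategory.Qh.map g ≫ e.inv)
    fun f => ?_
  obtain ⟨g, hg⟩ := (CochainComplex.IsKInjective.Qh_map_bijective
    ((HomotopyCategory.quotient A (ComplexShape.up ℤ)).obj K) I).surjective (d.hom ≫ f ≫ e.hom)
  exact ⟨g, by simp [hg]⟩

/-- The derived category with small morphism types. -/
@[instance_reducible]
noncomputable def hasSmallDerivedCategory : HasDerivedCategory.{v} A :=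
  haveI : LocallySmall.{v} (DerivedCategory A) := ⟨small_hom A⟩
  { D := ShrinkHoms (DerivedCategory A)
    L := DerivedCategory.Q ⋙ ShrinkHoms.functor _
    hL := Functor.IsLocalization.of_equivalence_target DerivedCategory.Q _ _
      (ShrinkHoms.equivalence _) (Iso.refl _) }

end Groth.Agent.CohDescent
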