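import Groth.Agent.Misc7.GSS.Abutment

/-!
The first page spectral sequence of a spectral object indexed by `EInt`, with the convention
`H^n(-p-1 ≤ -p)` in position `(p, n - p)`, and its abutment.
-/

set_option autoImplicit false

universe v u

open CategoryTheory CategoryTheory.Limits CategoryTheory.ComposableArrows
open CategoryTheory.Abelian CategoryTheory.Abelian.SpectralObject

namespace Groth.Agent.CohDescent

/-- The data for a first page cohomological spectral sequence. -/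
def coreE₁ : SpectralSequenceDataCore EInt (fun r ↦ ComplexShape.up' (⟨r, 1 - r⟩ : ℤ × ℤ)) 1 where
  deg pq := pq.1 + pq.2
  i₀ r pq _ := (-pq.1 - r :)
  i₁ pq := (-pq.1 - 1 :)
  i₂ pq := (-pq.1 :)
  i₃ r pq _ := (-pq.1 + r - 1 :)
  le₀₁ r pq hr := by simp; lia
  le₁₂ pq := by simp
  le₂₃ r pq hr := by simp; lia
  hc := by rintro r pq _ rfl _; dsimp; lia
  hc₀₂ := by rintro r pq hr rfl _; simp; lia
  hc₁₃ := by rintro r pq hr rfl _; simp
  antitone_i₀ r r' pq hr hrr' := by simp; lia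
  monotone_i₃ r r' pq hr hrr' := by simp; lia
  i₀_prev := by rintro r r' hr pq rfl _ _; exact congrArg WithBotTop.coe (by dsimp; lia)
  i₃_next := by rintro r r' hr pq rfl _ _; exact congrArg WithBotTop.coe (by dsimp; lia)

instance : coreE₁.HasFirstPageComputation where
  hi₀₁ _ := rfl
  hi₂₃ pq := by simp [coreE₁]

variable {C : Type u} [Category.{v} C] [Abelian C] (Y : SpectralObject C EInt)

instance : Y.HasSpectralSequence coreE₁ where
  isZero_H_obj_mk₁_i₀_le r r' pq hpq n hn hrr' hr := absurd rfl (hpq _)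
  isZero_H_obj_mk₁_i₃_le r r' pq hpq n hn hrr' hr :=
    absurd (by simp : (ComplexShape.up' ((r, 1 - r) : ℤ × ℤ)).Rel (pq - (r, 1 - r)) pq) (hpq _)

/-- A spectral object vanishing in negative positions and negative complementary degree. -/
structure IsE₁FirstQuadrant : Prop where
  zero₁ (i j : EInt) (hij : i ≤ j) (n : ℤ) (hi : ((0 : ℤ) : EInt) ≤ i) : IsZero ((Y.H n).obj (mk₁ (homOfLE hij)))
  zero₂ (i j : EInt) (hij : i ≤ j) (n : ℤ) (hj : j < ((-n : ℤ) : EInt)) : IsZero ((Y.H n).obj (mk₁ (homOfLE hij)))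

variable {Y} (hY : IsE₁FirstQuadrant Y)
include hY

lemma isZero_page (r : ℤ) (hr : 1 ≤ r) (pq : ℤ × ℤ) (h : pq.1 < 0 ∨ pq.2 < 0) :
    IsZero (((Y.spectralSequence coreE₁).page r hr).X pq) := by
  refine SpectralObject.isZero_spectralSequence_page_X_of_isZero_H' _ _ _ hr _ ?_
  rcases h with h | h
  · exact hY.zero₁ _ _ _ _ (by simp [coreE₁]; lia)
  · exact hY.zero₂ _ _ _ _ (by simp [coreE₁]; lia)

lemma nonempty_page_iso (r : ℤ) (hr : 1 ≤ r) (p q : ℤ) (hp : p + 1 ≤ r) (hq : q + 2 ≤ r) :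
    Nonempty (((Y.spectralSequence coreE₁).page r hr).X (p, q) ≅
      Y.E (homOfLE (bot_le : ⊥ ≤ ((-p - 1 : ℤ) : EInt)))
        (homOfLE (show ((-p - 1 : ℤ) : EInt) ≤ ((-p - 1 + 1 : ℤ) : EInt) by simp))
        (homOfLE (le_top : ((-p - 1 + 1 : ℤ) : EInt) ≤ ⊤)) (p + q - 1) (p + q) (p + q + 1)) := by
  have h01 : ((-p - r : ℤ) : EInt) ≤ ((-p - 1 : ℤ) : EInt) := by simp; lia
  have h12 : ((-p - 1 : ℤ) : EInt) ≤ ((-p - 1 + 1 : ℤ) : EInt) := by simp
  have h23 : ((-p - 1 + 1 : ℤ) : EInt) ≤ ((-p + r - 1 : ℤ) : EInt) := by simp; lia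
  have hA : IsIso (Y.mapFourδ₁Toδ₀' ⊥ ((-p - r : ℤ) : EInt) ((-p - 1 : ℤ) : EInt) ((-p - 1 + 1 : ℤ) : EInt)
      ((-p + r - 1 : ℤ) : EInt) bot_le h01 h12 h23 (p + q - 1) (p + q) (p + q + 1)) :=
    Y.isIso_map_fourδ₁Toδ₀_of_isZero _ _ _ _ _ _ _ _ _ (hY.zero₂ _ _ bot_le _ (by simp; lia))
  have hB : IsIso (Y.mapFourδ₄Toδ₃' ⊥ ((-p - 1 : ℤ) : EInt) ((-p - 1 + 1 : ℤ) : EInt) ((-p + r - 1 : ℤ) : EInt) ⊤
      bot_le h12 h23 le_top (p + q - 1) (p + q) (p + q + 1)) :=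
    Y.isIso_map_fourδ₄Toδ₃_of_isZero _ _ _ _ _ _ _ _ _ (hY.zero₁ _ _ le_top _ (by simp; lia))
  exact ⟨Y.spectralSequencePageXIso coreE₁ r hr (p, q) ((-p - r : ℤ) : EInt) ((-p - 1 : ℤ) : EInt)
      ((-p - 1 + 1 : ℤ) : EInt) ((-p + r - 1 : ℤ) : EInt) rfl rfl (by simp [coreE₁]) rfl
      (p + q - 1) (p + q) (p + q + 1) rfl ≪≫
    (@asIso _ _ _ _ _ hA).symm ≪≫ @asIso _ _ _ _ _ hB⟩

variable (H : ℤ → C) (e : ∀ n, (Y.H n).obj (mk₁ (homOfLE (bot_le : (⊥ : EInt) ≤ ⊤))) ≅ H n)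
include e

/-- The spectral sequence of a spectral object concentrated in the first quadrant, with finite abutment. -/
theorem exists_E₁spectralSequence :
    ∃ (E : CohomologicalSpectralSequence C 1) (a : SpSeq.Abutment E H),
      (∀ n, a.IsFinite n) ∧ SpSeq.IsBounded E ∧
      (∀ p q : ℤ, Nonempty ((E.page 1 le_rfl).X (p, q) ≅
        (Y.H (p + q)).obj (mk₁ (homOfLE (show ((-p - 1 : ℤ) : EInt) ≤ ((-p : ℤ) : EInt) by simp))))) ∧
      ∀ p q : ℤ, (p < 0 ∨ q < 0) → IsZero ((E.page 1 le_rfl).X (p, q)) := by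
  let E := Y.spectralSequence coreE₁
  let rk : ℤ × ℤ → ℤ := fun pq => max 1 (max (pq.1 + 1) (pq.2 + 2))
  have hst : ∀ pq, SpSeq.StationaryAt E pq (rk pq) := fun pq => by
    refine ⟨le_max_left _ _, fun r' h₀ hr' => ⟨?_, ?_⟩⟩
    · have : pq.1 + 1 ≤ r' := le_trans (le_trans (le_max_left _ _) (le_max_right _ _)) hr'
      exact (isZero_page hY r' h₀ _ (Or.inl (by simp only [Prod.fst_sub]; lia))).eq_of_src _ _
    · have : pq.2 + 2 ≤ r' := le_trans (le_trans (le_max_right _ _) (le_max_right _ _)) hr'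
      exact (isZero_page hY r' h₀ _ (Or.inr (by simp only [Prod.snd_add]; lia))).eq_of_tgt _ _
  let F : ∀ n, ℤ → Subobject (H n) := fun n p => Groth.Misc7.GSS.filAt Y H e n ((-p : ℤ) : EInt)
  have hF : ∀ n, Antitone (F n) := fun n a b h => Groth.Misc7.GSS.filAt_mono Y H e n (by simp; lia)
  have hβ : ∀ pq : ℤ × ℤ, Nonempty ((E.page (rk pq) (hst pq).1).X pq ≅
      SpSeq.grPiece (F (pq.1 + pq.2)) (hF (pq.1 + pq.2)) pq.1) := fun ⟨p, q⟩ => by
    obtain ⟨i⟩ := nonempty_page_iso hY (rk (p, q)) (hst (p, q)).1 p q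
      (le_trans (le_max_left _ _) (le_max_right _ _)) (le_trans (le_max_right _ _) (le_max_right _ _))
    obtain ⟨j⟩ := Groth.Misc7.GSS.nonempty_gr_iso Y H e (p + q) (p + q + p + 1) (-p - 1) (by lia)
    refine ⟨i ≪≫ j ≪≫ eqToIso ?_⟩
    have key : ∀ (a b : ℤ), a = p → b = p + 1 → ∀ (h : Groth.Misc7.GSS.filAt Y H e (p + q) ((-b : ℤ) : EInt) ≤
        Groth.Misc7.GSS.filAt Y H e (p + q) ((-a : ℤ) : EInt)),
        SpSeq.subquot _ _ h = SpSeq.grPiece (F (p + q)) (hF (p + q)) p := by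
      rintro a b rfl rfl h; rfl
    have e1 : ∀ z : ℤ, p + q - z + 1 = -(z - (p + q) - 1) := fun z => by lia
    show SpSeq.subquot (Groth.Misc7.GSS.fil Y H e (p + q) (p + q + p + 1))
      (Groth.Misc7.GSS.fil Y H e (p + q) (p + q + p + 1 + 1)) _ = _
    unfold Groth.Misc7.GSS.fil
    simp only [e1]
    exact key _ _ (by lia) (by lia) _
  refine ⟨E, { fil := F, anti := hF, rk := rk, stat := hst, β := fun pq => (hβ pq).some },
    fun n => ⟨⟨0, ?_⟩, ⟨n + 1, ?_⟩⟩, fun n => ?_, fun p q => ?_, fun p q h => ?_⟩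
  · show Groth.Misc7.GSS.filAt Y H e n ((-0 : ℤ) : EInt) = ⊤
    have h1 : Epi (Groth.Misc7.GSS.toTot Y n ((-0 : ℤ) : EInt)) :=
      (Y.exact₂ (homOfLE bot_le) (homOfLE le_top) (homOfLE bot_le) rfl n).epi_f
        ((hY.zero₁ _ _ le_top n (by simp)).eq_of_tgt _ _)
    have : Epi (Groth.Misc7.GSS.toTot Y n ((-0 : ℤ) : EInt) ≫ (e n).hom) := epi_comp _ _
    have h2 : Epi ((imageSubobject (Groth.Misc7.GSS.toTot Y n ((-0 : ℤ) : EInt) ≫ (e n).hom)).arrow) :=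
      epi_of_epi_fac (imageSubobject_arrow_comp _)
    exact @Subobject.eq_top_of_isIso_arrow _ _ _ _ (@isIso_of_mono_of_epi _ _ _ _ _ _ inferInstance h2)
  · show Groth.Misc7.GSS.filAt Y H e n ((-(n + 1) : ℤ) : EInt) = ⊥
    have h := hY.zero₂ ⊥ ((-(n + 1) : ℤ) : EInt) bot_le n (by simp)
    simp only [Groth.Misc7.GSS.filAt,
      h.eq_of_src (Groth.Misc7.GSS.toTot Y n ((-(n + 1) : ℤ) : EInt) ≫ (e n).hom) 0, imageSubobject_zero]
  · refine (Set.finite_Icc 0 n).subset fun p hp => ?_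
    by_contra h
    refine hp (isZero_page hY 1 le_rfl _ ?_)
    simp only [Set.mem_Icc, not_and_or, not_le] at h
    rcases h with h | h
    · exact Or.inl h
    · exact Or.inr (by simp; lia)
  · exact ⟨Y.spectralSequenceFirstPageXIso coreE₁ (p, q) _ _ rfl rfl (p + q) rfl⟩
  · exact isZero_page hY 1 le_rfl _ h

end Groth.Agent.CohDescent
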