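import Mathlib

/-!
Brutal windows of a cochain complex, functorial in intervals of `EInt`.
-/

set_option autoImplicit false
universe v u

open CategoryTheory CategoryTheory.Limits CategoryTheory.ComposableArrows
open scoped ZeroObject

namespace Groth.Agent.CohDescent

variable {A : Type u} [Category.{v} A] [Abelian A] (K : CochainComplex A ℤ)

/-- The degree `k` lies in the window. -/
def mem (D : ComposableArrows EInt 1) (k : ℤ) : Prop :=
  D.obj 0 < ((-k : ℤ) : EInt) ∧ ((-k : ℤ) : EInt) ≤ D.obj 1

open scoped Classical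

/-- The objects of a window. -/
noncomputable def winX (D : ComposableArrows EInt 1) (k : ℤ) : A := if mem D k then K.X k else 0

/-- The inclusion of a window in degree `k`. -/
noncomputable def proj (D : ComposableArrows EInt 1) (k : ℤ) : winX K D k ⟶ K.X k :=
  if h : mem D k then eqToHom (if_pos h) else 0

/-- The projection on a window in degree `k`. -/
noncomputable def inj (D : ComposableArrows EInt 1) (k : ℤ) : K.X k ⟶ winX K D k :=
  if h : mem D k then eqToHom (if_pos h).symm else 0

lemma isZero_winX {D : ComposableArrows EInt 1} {k : ℤ} (h : ¬ mem D k) : IsZero (winX K D k) := by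
  rw [winX, if_neg h]; exact isZero_zero A

@[reassoc (attr := simp)]
lemma proj_inj (D : ComposableArrows EInt 1) (k : ℤ) : proj K D k ≫ inj K D k = 𝟙 _ := by
  by_cases h : mem D k
  · simp [proj, inj, h]
  · exact (isZero_winX K h).eq_of_src _ _

@[reassoc]
lemma inj_proj {D : ComposableArrows EInt 1} {k : ℤ} (h : mem D k) : inj K D k ≫ proj K D k = 𝟙 _ := by
  simp [proj, inj, h]

lemma inj_eq_zero {D : ComposableArrows EInt 1} {k : ℤ} (h : ¬ mem D k) : inj K D k = 0 := dif_neg h

lemma proj_eq_zero {D : ComposableArrows EInt 1} {k : ℤ} (h : ¬ mem D k) : proj K D k = 0 := dif_neg h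

/-- The window complex. -/
noncomputable abbrev winObj (D : ComposableArrows EInt 1) : CochainComplex A ℤ where
  X := winX K D
  d i j := proj K D i ≫ K.d i j ≫ inj K D j
  shape i j h := by rw [K.shape i j h, zero_comp, comp_zero]
  d_comp_d' i j k _ _ := by
    by_cases h : mem D j
    · simp [inj_proj_assoc K h]
    · simp [inj_eq_zero K h]

lemma obj_le {D D' : ComposableArrows EInt 1} (φ : D ⟶ D') (i : Fin 2) : D.obj i ≤ D'.obj i :=
  leOfHom (φ.app i)

/-- The maps between windows. -/
noncomputable abbrev winMap {D D' : ComposableArrows EInt 1} (φ : D ⟶ D') : winObj K D ⟶ winObj K D' where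
  f k := proj K D k ≫ inj K D' k
  comm' i j hij := by
    obtain rfl : i + 1 = j := hij
    have hlt : ((-(i + 1) : ℤ) : EInt) < ((-i : ℤ) : EInt) := by simp
    by_cases h1 : mem D i
    swap
    · exact (isZero_winX K h1).eq_of_src _ _
    by_cases h2 : mem D' (i + 1)
    swap
    · exact (isZero_winX K h2).eq_of_tgt _ _
    have h3 : mem D' i := ⟨h2.1.trans hlt, h1.2.trans (obj_le φ 1)⟩
    have h4 : mem D (i + 1) := ⟨(obj_le φ 0).trans_lt h2.1, hlt.le.trans h1.2⟩
    simp [inj_proj_assoc K h3, inj_proj_assoc K h4]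

/-- The window functor. -/
noncomputable def window : ComposableArrows EInt 1 ⥤ CochainComplex A ℤ where
  obj := winObj K
  map φ := winMap K φ
  map_id D := by ext k; exact proj_inj K D k
  map_comp {D D' D''} φ ψ := by
    ext k
    dsimp
    by_cases h1 : mem D k
    swap
    · exact (isZero_winX K h1).eq_of_src _ _
    by_cases h2 : mem D'' k
    swap
    · exact (isZero_winX K h2).eq_of_tgt _ _
    have h3 : mem D' k := ⟨(obj_le ψ 0).trans_lt h2.1, h1.2.trans (obj_le φ 1)⟩
    simp [inj_proj_assoc K h3]

/-- The short complex of windows of two adjacent intervals. -/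
noncomputable def winShort : ComposableArrows EInt 2 ⥤ ShortComplex (CochainComplex A ℤ) where
  obj D := ShortComplex.mk
    ((window K).map ((mapFunctorArrows EInt 0 1 0 2 2).app D))
    ((window K).map ((mapFunctorArrows EInt 0 2 1 2 2).app D)) (by
      ext k
      dsimp [window]
      by_cases h1 : mem ((functorArrows EInt 0 1 2).obj D) k
      swap
      · exact (isZero_winX K h1).eq_of_src _ _
      by_cases h2 : mem ((functorArrows EInt 1 2 2).obj D) k
      swap
      · exact (isZero_winX K h2).eq_of_tgt _ _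
      exact absurd h1.2 (not_le.2 h2.1))
  map {D D'} φ :=
    { τ₁ := (window K).map ((functorArrows EInt 0 1 2).map φ)
      τ₂ := (window K).map ((functorArrows EInt 0 2 2).map φ)
      τ₃ := (window K).map ((functorArrows EInt 1 2 2).map φ)
      comm₁₂ := by simp only [← Functor.map_comp]; congr 1
      comm₂₃ := by simp only [← Functor.map_comp]; congr 1 }
  map_id D := ShortComplex.hom_ext _ _
    (((window K).congr_map ((functorArrows EInt 0 1 2).map_id D)).trans ((window K).map_id _))
    (((window K).congr_map ((functorArrows EInt 0 2 2).map_id D)).trans ((window K).map_id _))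
    (((window K).congr_map ((functorArrows EInt 1 2 2).map_id D)).trans ((window K).map_id _))
  map_comp φ ψ := ShortComplex.hom_ext _ _
    (((window K).congr_map ((functorArrows EInt 0 1 2).map_comp φ ψ)).trans ((window K).map_comp _ _))
    (((window K).congr_map ((functorArrows EInt 0 2 2).map_comp φ ψ)).trans ((window K).map_comp _ _))
    (((window K).congr_map ((functorArrows EInt 1 2 2).map_comp φ ψ)).trans ((window K).map_comp _ _))

lemma winShort_shortExact (D : ComposableArrows EInt 2) : ((winShort K).obj D).ShortExact := by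
  refine HomologicalComplex.shortExact_of_degreewise_shortExact _ fun k => ?_
  let D₁ := (functorArrows EInt 0 1 2).obj D
  let D₂ := (functorArrows EInt 0 2 2).obj D
  let D₃ := (functorArrows EInt 1 2 2).obj D
  refine ShortComplex.Splitting.shortExact
    { r := proj K D₂ k ≫ inj K D₁ k
      s := proj K D₃ k ≫ inj K D₂ k
      f_r := ?_, s_g := ?_, id := ?_ }
  · show (proj K D₁ k ≫ inj K D₂ k) ≫ proj K D₂ k ≫ inj K D₁ k = 𝟙 _
    by_cases h : mem D₁ k
    · have h' : mem D₂ k := ⟨h.1, h.2.trans (leOfHom (D.map' 1 2))⟩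
      simp [inj_proj_assoc K h']
    · exact (isZero_winX K h).eq_of_src _ _
  · show (proj K D₃ k ≫ inj K D₂ k) ≫ proj K D₂ k ≫ inj K D₃ k = 𝟙 _
    by_cases h : mem D₃ k
    · have h' : mem D₂ k := ⟨(leOfHom (D.map' 0 1)).trans_lt h.1, h.2⟩
      simp [inj_proj_assoc K h']
    · exact (isZero_winX K h).eq_of_src _ _
  · show (proj K D₂ k ≫ inj K D₁ k) ≫ (proj K D₁ k ≫ inj K D₂ k) +
      (proj K D₂ k ≫ inj K D₃ k) ≫ (proj K D₃ k ≫ inj K D₂ k) = 𝟙 _
    by_cases h : mem D₂ k
    · by_cases h1 : ((-k : ℤ) : EInt) ≤ D.obj 1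
      · have h' : mem D₁ k := ⟨h.1, h1⟩
        simp [inj_proj_assoc K h', inj_eq_zero K (fun h'' : mem D₃ k => not_le.2 h''.1 h1)]
      · have h' : mem D₃ k := ⟨not_le.1 h1, h.2⟩
        simp [inj_proj_assoc K h', inj_eq_zero K (fun h'' : mem D₁ k => h1 h''.2)]
    · exact (isZero_winX K h).eq_of_src _ _

end Groth.Agent.CohDescent
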