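import Mathlib
import Groth.Agent.CohDescent.SmallDerived
import Groth.Agent.CohDescent.SpectralObjectE1
import Groth.Agent.CohDescent.Window
import Groth.Agent.Misc7.GSS.Homological

/-!
The first page spectral sequence of a right resolution, computing `Ext`.
-/

set_option autoImplicit false
universe v u

open CategoryTheory CategoryTheory.Limits CategoryTheory.ComposableArrows CategoryTheory.Pretriangulated
open CategoryTheory.Abelian
open scoped ZeroObject

namespace Groth.Agent.CohDescent

variable {A : Type u} [Category.{v} A] [Abelian A]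

section Derived

variable [HasDerivedCategory.{v} A]

/-- The spectral object of the brutal filtration of a complex. -/
noncomputable def winSpectral (K : CochainComplex A ℤ) : Triangulated.SpectralObject (DerivedCategory A) EInt where
  ω₁ := window K ⋙ DerivedCategory.Q
  δ' :=
    { app := fun D => DerivedCategory.triangleOfSESδ (winShort_shortExact K D)
      naturality := fun D D' φ =>
        (DerivedCategory.triangleOfSESδ_naturality (winShort_shortExact K D) (winShort_shortExact K D')
          ((winShort K).map φ)).symm }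
  distinguished' D := DerivedCategory.triangleOfSES_distinguished (winShort_shortExact K D)

/-- The functor `Hom(Z, -)` on the derived category. -/
noncomputable abbrev homFrom (Z : A) : DerivedCategory A ⥤ AddCommGrpCat.{v} :=
  preadditiveCoyoneda.obj (Opposite.op ((DerivedCategory.singleFunctor A 0).obj Z))

/-- The spectral object of `Hom(Z, -)` applied to windows. -/
noncomputable def homSpectral (K : CochainComplex A ℤ) (Z : A) : SpectralObject AddCommGrpCat.{v} EInt :=
  Groth.Misc7.GSS.mapHomological (winSpectral K) (homFrom Z)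

lemma isZero_hom_shift (W : CochainComplex A ℤ) (Z : A) (k n : ℤ) [W.IsStrictlyGE k] (h : n < k) :
    IsZero ((homFrom Z).obj ((DerivedCategory.Q.obj W)⟦n⟧)) := by
  refine @AddCommGrpCat.isZero_of_subsingleton _ ⟨fun f g => ?_⟩
  have : (DerivedCategory.Q.obj W).IsGE k := inferInstance
  have : ((DerivedCategory.Q.obj W)⟦n⟧).IsGE (k - n) :=
    DerivedCategory.TStructure.t.isGE_shift _ k n (k - n) (by lia)
  have : ((DerivedCategory.singleFunctor A 0).obj Z).IsLE 0 := inferInstance
  exact (DerivedCategory.TStructure.t.zero f 0 (k - n) (by lia)).trans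
    (DerivedCategory.TStructure.t.zero g 0 (k - n) (by lia)).symm

variable (K : CochainComplex A ℤ) [K.IsStrictlyGE 0] (Z : A)

lemma isZero_winX_of_nonneg {D : ComposableArrows EInt 1} (k : ℤ) (h : ((0 : ℤ) : EInt) ≤ D.obj 0) :
    IsZero (winX K D k) := by
  by_cases hk : mem D k
  · have : ((0 : ℤ) : EInt) < ((-k : ℤ) : EInt) := h.trans_lt hk.1
    simp at this
    exact (K.isZero_of_isStrictlyGE 0 k this).of_iso (eqToIso (if_pos hk))
  · exact isZero_winX K hk

lemma isE₁FirstQuadrant_homSpectral : IsE₁FirstQuadrant (homSpectral K Z) where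
  zero₁ i j hij n hi := by
    refine Functor.map_isZero ((homFrom Z).shift n) ?_
    refine Functor.map_isZero DerivedCategory.Q ?_
    rw [IsZero.iff_id_eq_zero]
    ext k
    exact (isZero_winX_of_nonneg K (D := mk₁ (homOfLE hij)) k hi).eq_of_src _ _
  zero₂ i j hij n hj := by
    have : ((window K).obj (mk₁ (homOfLE hij))).IsStrictlyGE (n + 1) := by
      refine (CochainComplex.isStrictlyGE_iff _ _).2 fun k hk => ?_
      refine isZero_winX K fun h => ?_
      have := h.2.trans_lt hj
      simp at this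
      lia
    exact isZero_hom_shift _ Z (n + 1) n (by lia)

/-- A one-point window is a single complex. -/
noncomputable def winSingleIso (p : ℤ) :
    (window K).obj (mk₁ (homOfLE (show ((-p - 1 : ℤ) : EInt) ≤ ((-p : ℤ) : EInt) by simp))) ≅
      (HomologicalComplex.single A (ComplexShape.up ℤ) p).obj (K.X p) :=
  let D : ComposableArrows EInt 1 := mk₁ (homOfLE (show ((-p - 1 : ℤ) : EInt) ≤ ((-p : ℤ) : EInt) by simp))
  have hp : ∀ k, mem D k → k = p := fun k h => by
    obtain ⟨h1, h2⟩ := h
    simp [D] at h1 h2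
    lia
  have hmp : mem D p := ⟨by simp [D], le_rfl⟩
  HomologicalComplex.Hom.isoOfComponents
    (fun k => if h : k = p then
        eqToIso (by subst h; exact if_pos hmp) ≪≫ (HomologicalComplex.singleObjXSelf _ k (K.X k)).symm ≪≫
          eqToIso (by subst h; rfl)
      else (isZero_winX K (fun hm => h (hp k hm))).iso
        (HomologicalComplex.isZero_single_obj_X _ _ _ _ h))
    (fun a b hab => by
      obtain rfl : a + 1 = b := hab
      by_cases ha : a = p
      · exact (HomologicalComplex.isZero_single_obj_X (ComplexShape.up ℤ) p (K.X p) (a + 1) (by lia)).eq_of_tgt _ _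
      · exact (isZero_winX K (fun hm => ha (hp _ hm))).eq_of_src _ _)

/-- The full window is the complex. -/
noncomputable def winFullIso : (window K).obj (mk₁ (homOfLE (bot_le : (⊥ : EInt) ≤ ⊤))) ≅ K :=
  HomologicalComplex.Hom.isoOfComponents
    (fun k => eqToIso (if_pos (show mem (mk₁ (homOfLE (bot_le : (⊥ : EInt) ≤ ⊤))) k from
      ⟨bot_lt_iff_ne_bot.2 (WithBotTop.coe_ne_bot _), le_top⟩)))
    (fun a b _ => by
      have h : ∀ k, mem (mk₁ (homOfLE (bot_le : (⊥ : EInt) ≤ ⊤))) k := fun k =>
        ⟨bot_lt_iff_ne_bot.2 (WithBotTop.coe_ne_bot _), le_top⟩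
      simp [window, proj, inj, h])

variable [HasExt.{v} A]

/-- Morphisms from `Z` to a shifted single complex compute `Ext`. -/
noncomputable def singleExtIso (M : A) (p q : ℤ) (hq : 0 ≤ q) :
    (homFrom Z).obj (((DerivedCategory.singleFunctor A p).obj M)⟦p + q⟧) ≅
      AddCommGrpCat.of (Ext.{v} Z M q.toNat) :=
  (homFrom Z).mapIso
      ((((DerivedCategory.singleFunctors A).shiftIso (p + q) (-q) p (by lia)).app M) ≪≫
        (((DerivedCategory.singleFunctors A).shiftIso (q.toNat : ℤ) (-q) 0
          (by rw [Int.toNat_of_nonneg hq]; lia)).app M).symm) ≪≫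
    (AddEquiv.toAddCommGrpIso (X := AddCommGrpCat.of _) (Y := AddCommGrpCat.of _) Ext.homAddEquiv.symm)

theorem nonempty_page_iso_ext (p q : ℤ) (hq : 0 ≤ q) :
    Nonempty (((homSpectral K Z).H (p + q)).obj
        (mk₁ (homOfLE (show ((-p - 1 : ℤ) : EInt) ≤ ((-p : ℤ) : EInt) by simp))) ≅
      AddCommGrpCat.of (Ext.{v} Z (K.X p) q.toNat)) :=
  ⟨(homFrom Z).mapIso ((shiftFunctor (DerivedCategory A) (p + q)).mapIso
      (DerivedCategory.Q.mapIso (winSingleIso K p) ≪≫
        ((SingleFunctors.evaluation _ _ p).mapIso (DerivedCategory.singleFunctorsPostcompQIso A).symm).app (K.X p))) ≪≫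
    singleExtIso Z (K.X p) p q hq⟩

theorem nonempty_total_iso_ext (F : A) (η : (HomologicalComplex.single A (ComplexShape.up ℤ) 0).obj F ⟶ K)
    [QuasiIso η] (n : ℤ) :
    Nonempty (((homSpectral K Z).H n).obj (mk₁ (homOfLE (bot_le : (⊥ : EInt) ≤ ⊤))) ≅
      if 0 ≤ n then AddCommGrpCat.of (Ext.{v} Z F n.toNat) else AddCommGrpCat.of PUnit.{v + 1}) := by
  by_cases hn : 0 ≤ n
  · rw [if_pos hn]
    refine ⟨(homFrom Z).mapIso ((shiftFunctor (DerivedCategory A) n).mapIso
      (DerivedCategory.Q.mapIso (winFullIso K) ≪≫ (asIso (DerivedCategory.Q.map η)).symm ≪≫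
        ((SingleFunctors.evaluation _ _ 0).mapIso (DerivedCategory.singleFunctorsPostcompQIso A).symm).app F)) ≪≫
      eqToIso ?_ ≪≫ singleExtIso Z F 0 n hn⟩
    rw [zero_add]
    rfl
  · rw [if_neg hn]
    have : ((window K).obj (mk₁ (homOfLE (bot_le : (⊥ : EInt) ≤ ⊤)))).IsStrictlyGE 0 :=
      CochainComplex.isStrictlyGE_of_iso (winFullIso K).symm 0
    exact ⟨(isZero_hom_shift _ Z 0 n (by lia)).iso (AddCommGrpCat.isZero_of_subsingleton _)⟩

end Derived

/-- The spectral sequence of a resolution `F → K` for `Ext(Z, -)`, in existence form. -/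
theorem exists_resolution_spectralSequence [IsGrothendieckAbelian.{v} A] [HasExt.{v} A] (Z F : A)
    (K : CochainComplex A ℤ) [K.IsStrictlyGE 0]
    (η : (HomologicalComplex.single A (ComplexShape.up ℤ) 0).obj F ⟶ K) [QuasiIso η] :
    ∃ (E : CohomologicalSpectralSequence AddCommGrpCat.{v} 1)
      (a : SpSeq.Abutment E (fun n : ℤ =>
        if 0 ≤ n then AddCommGrpCat.of (Ext.{v} Z F n.toNat) else AddCommGrpCat.of PUnit.{v + 1})),
      (∀ n, a.IsFinite n) ∧ SpSeq.IsBounded E ∧
      ∀ p q : ℤ, Nonempty ((E.page 1 le_rfl).X (p, q) ≅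
        if 0 ≤ p ∧ 0 ≤ q then AddCommGrpCat.of (Ext.{v} Z (K.X p) q.toNat) else AddCommGrpCat.of PUnit.{v + 1}) := by
  letI := hasSmallDerivedCategory A
  obtain ⟨E, a, ha, hb, hE, hz⟩ := exists_E₁spectralSequence (isE₁FirstQuadrant_homSpectral K Z) _
    (fun n => (nonempty_total_iso_ext K Z F η n).some)
  refine ⟨E, a, ha, hb, fun p q => ?_⟩
  by_cases h : 0 ≤ p ∧ 0 ≤ q
  · rw [if_pos h]
    exact ⟨(hE p q).some ≪≫ (nonempty_page_iso_ext K Z p q h.2).some⟩
  · rw [if_neg h]
    exact ⟨(hz p q (by lia)).iso (AddCommGrpCat.isZero_of_subsingleton _)⟩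

end Groth.Agent.CohDescent
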