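import Mathlib
import Groth.Agent.CohDescent.PushFibre
import Groth.Agent.CohDescent.ResolutionSS
import Groth.Agent.SiteCohomology.ExtAdjunction
import Groth.Agent.SiteCohomology.Free

/-!
The descent complex of a simplicial space over a base and the resulting spectral sequence.
-/

set_option autoImplicit false
universe u

open CategoryTheory CategoryTheory.Limits Opposite TopologicalSpace Simplicial
open CategoryTheory.Abelian
open scoped ZeroObject
open Groth.SiteCohomology

namespace Groth.Agent.CohDescent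

instance {A B : TopCat.{u}} (g : A ⟶ B) : (CohTop.pull g).Additive := (pullPushAdj g).left_adjoint_additive

variable {S : TopCat.{u}} (F : CohTop.Ab S)

section Functoriality

variable {T T' : TopCat.{u}}

instance (x : S) : (sfib x).Additive :=
  haveI := ((Opens.pointGrothendieckTopology x).skyscraperSheafAdjunction
    (A := AddCommGrpCat.{u})).leftAdjoint_preservesColimits.{0, 0}
  haveI : PreservesBinaryBiproducts (sfib x) := preservesBinaryBiproducts_of_preservesBinaryCoproducts _
  Functor.additive_of_preservesBinaryBiproducts _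

/-- The transpose of the unit of a composite. -/
noncomputable def xi (g : T ⟶ S) (α : T' ⟶ T) :
    (CohTop.pull g).obj F ⟶ (CohTop.push α).obj ((CohTop.pull (α ≫ g)).obj F) :=
  ((pullPushAdj g).homEquiv F _).symm ((pullPushAdj (α ≫ g)).unit.app F)

lemma unit_push_xi (g : T ⟶ S) (α : T' ⟶ T) :
    (pullPushAdj g).unit.app F ≫ (CohTop.push g).map (xi F g α) = (pullPushAdj (α ≫ g)).unit.app F := by
  exact ((pullPushAdj g).homEquiv_unit (X := F) (f := xi F g α)).symm.trans
    (Equiv.apply_symm_apply ((pullPushAdj g).homEquiv F _) _)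

/-- Functoriality of `g ↦ g_* g^{-1} F`. -/
noncomputable def mmap (g : T ⟶ S) (g' : T' ⟶ S) (α : T' ⟶ T) (h : α ≫ g = g') :
    (CohTop.push g).obj ((CohTop.pull g).obj F) ⟶ (CohTop.push g').obj ((CohTop.pull g').obj F) :=
  h ▸ (CohTop.push g).map (xi F g α)

@[reassoc]
lemma unit_mmap (g : T ⟶ S) (g' : T' ⟶ S) (α : T' ⟶ T) (h : α ≫ g = g') :
    (pullPushAdj g).unit.app F ≫ mmap F g g' α h = (pullPushAdj g').unit.app F := by
  subst h
  exact unit_push_xi F g α

lemma mmap_eq_map (g : T ⟶ S) (α : T' ⟶ T) : mmap F g (α ≫ g) α rfl = (CohTop.push g).map (xi F g α) := rfl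

lemma map_unit_inj (g : T ⟶ S) {G : CohTop.Ab T} (φ ψ : (CohTop.pull g).obj F ⟶ G)
    (h : (pullPushAdj g).unit.app F ≫ (CohTop.push g).map φ = (pullPushAdj g).unit.app F ≫ (CohTop.push g).map ψ) :
    φ = ψ := by
  apply ((pullPushAdj g).homEquiv F G).injective
  rwa [Adjunction.homEquiv_unit, Adjunction.homEquiv_unit]

lemma mmap_id (g : T ⟶ S) : mmap F g g (𝟙 T) (Category.id_comp g) = 𝟙 _ := by
  have h : (CohTop.push g).map (xi F g (𝟙 T)) = 𝟙 _ := by
    rw [show xi F g (𝟙 T) = 𝟙 _ from map_unit_inj F g _ _ ((unit_push_xi F g (𝟙 T)).trans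
      (((CohTop.push g).map_id _).symm ▸ (Category.comp_id _).symm))]
    exact (CohTop.push g).map_id _
  exact h

lemma mmap_comp {T'' : TopCat.{u}} (g : T ⟶ S) (g' : T' ⟶ S) (g'' : T'' ⟶ S) (α : T' ⟶ T) (β : T'' ⟶ T')
    (h : α ≫ g = g') (h' : β ≫ g' = g'') :
    mmap F g g'' (β ≫ α) (by rw [Category.assoc, h, h']) = mmap F g g' α h ≫ mmap F g' g'' β h' := by
  subst h h'
  have key : xi F g (β ≫ α) = xi F g α ≫ (CohTop.push α).map (xi F (α ≫ g) β) := map_unit_inj F g _ _ (by
    refine (unit_push_xi F g (β ≫ α)).trans ?_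
    refine (unit_push_xi F (α ≫ g) β).symm.trans ?_
    refine (congrArg (· ≫ (CohTop.push (α ≫ g)).map (xi F (α ≫ g) β)) (unit_push_xi F g α)).symm.trans ?_
    exact (Category.assoc _ _ _).trans (congrArg ((pullPushAdj g).unit.app F ≫ ·)
      ((CohTop.push g).map_comp (xi F g α) ((CohTop.push α).map (xi F (α ≫ g) β))).symm))
  exact (show mmap F g (β ≫ α ≫ g) (β ≫ α) _ = (CohTop.push g).map (xi F g (β ≫ α)) from rfl).trans
    ((congrArg (fun k => (CohTop.push g).map k) key).trans ((CohTop.push g).map_comp _ _))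

/-- Evaluation at a point of the fibre. -/
noncomputable def ev (g : T ⟶ S) {x : S} {y : T} (h : g y = x) :
    (sfib x).obj ((CohTop.push g).obj ((CohTop.pull g).obj F)) ⟶ (sfib x).obj F :=
  haveI := isIso_tau g h F
  pushGerm g h _ ≫ inv (tau g h F)

lemma unit_ev (g : T ⟶ S) {x : S} {y : T} (h : g y = x) :
    (sfib x).map ((pullPushAdj g).unit.app F) ≫ ev F g h = 𝟙 _ := by
  haveI := isIso_tau g h F
  rw [ev, ← Category.assoc]
  exact IsIso.hom_inv_id (tau g h F)

lemma pushGerm_map (g : T ⟶ S) {x : S} {y : T} (h : g y = x) {G G' : CohTop.Ab T} (φ : G ⟶ G') :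
    (sfib x).map ((CohTop.push g).map φ) ≫ pushGerm g h G' = pushGerm g h G ≫ (sfib y).map φ := by
  refine (Opens.pointGrothendieckTopology x).presheafFiber_hom_ext fun U hx => ?_
  refine ConcreteCategory.hom_ext _ _ fun s => ?_
  exact (congrArg (pushGerm g h G') (gm_map ((CohTop.push g).map φ) x U hx.down.down s)).trans
    ((pushGerm_gm g h G' U hx.down.down _).trans ((gm_map φ y _ _ s).symm.trans
      (congrArg ((sfib y).map φ) (pushGerm_gm g h G U hx.down.down s).symm)))

lemma pushGerm_comp (g : T ⟶ S) (α : T' ⟶ T) {x : S} {y : T'} (h : (α ≫ g) y = x) (G : CohTop.Ab T') :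
    pushGerm (α ≫ g) h G = pushGerm g (show g (α y) = x from h) ((CohTop.push α).obj G) ≫ pushGerm α rfl G := by
  refine (Opens.pointGrothendieckTopology x).presheafFiber_hom_ext fun U hx => ?_
  refine ConcreteCategory.hom_ext _ _ fun s => ?_
  exact (pushGerm_gm (α ≫ g) h G U hx.down.down s).trans
    ((pushGerm_gm α rfl G ((Opens.map g).obj U) (by subst h; exact hx.down.down) s).symm.trans
      (congrArg (pushGerm α rfl G) (pushGerm_gm g h ((CohTop.push α).obj G) U hx.down.down s).symm))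

lemma mmap_ev (g : T ⟶ S) (g' : T' ⟶ S) (α : T' ⟶ T) (h : α ≫ g = g') {x : S} {y : T'} (hy : g' y = x) :
    (sfib x).map (mmap F g g' α h) ≫ ev F g' hy = ev F g (show g (α y) = x by rw [← hy, ← h]; rfl) := by
  subst h
  have hy' : g (α y) = x := hy
  haveI := isIso_tau g hy' F
  haveI := isIso_tau (α ≫ g) hy F
  let G' := (CohTop.pull (α ≫ g)).obj F
  have e1 : (sfib x).map (mmap F g (α ≫ g) α rfl) ≫ pushGerm (α ≫ g) hy G' =
      pushGerm g hy' _ ≫ (sfib (α y)).map (xi F g α) ≫ pushGerm α rfl G' := by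
    rw [mmap_eq_map, pushGerm_comp g α hy G', ← Category.assoc]
    refine (congrArg (· ≫ pushGerm α rfl G') (pushGerm_map g hy' (xi F g α))).trans ?_
    rw [Category.assoc]
  have e2 : tau g hy' F ≫ (sfib (α y)).map (xi F g α) ≫ pushGerm α rfl G' = tau (α ≫ g) hy F := by
    rw [tau, tau, Category.assoc, ← e1, ← Category.assoc, ← Functor.map_comp, unit_mmap]
  rw [ev, ev, ← Category.assoc, e1, IsIso.comp_inv_eq, Category.assoc, ← e2, IsIso.inv_hom_id_assoc]

end Functoriality

/-- The functor `g ↦ g_* g^{-1} F`. -/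
noncomputable def mFunctor : (Over S)ᵒᵖ ⥤ CohTop.Ab S where
  obj a := (CohTop.push a.unop.hom).obj ((CohTop.pull a.unop.hom).obj F)
  map {a b} f := mmap F a.unop.hom b.unop.hom f.unop.left (Over.w f.unop)
  map_id a := mmap_id F _
  map_comp {a b c} f g := mmap_comp F _ _ _ _ _ (Over.w f.unop) (Over.w g.unop)

variable (T : SimplicialObject (Over S))

/-- The cosimplicial sheaf of a simplicial space over the base. -/
noncomputable def cosimp : SimplexCategory ⥤ CohTop.Ab S := Functor.rightOp T ⋙ mFunctor F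

/-- The coface maps. -/
noncomputable def coface {n : ℕ} (i : Fin (n + 2)) : (cosimp F T).obj ⦋n⦌ ⟶ (cosimp F T).obj ⦋n + 1⦌ :=
  (cosimp F T).map (SimplexCategory.δ i)

/-- The structure maps. -/
noncomputable abbrev str (n : ℕ) : (T.obj (op ⦋n⦌)).left ⟶ S := (T.obj (op ⦋n⦌)).hom

/-- The points over a point of the base. -/
abbrev Fib (n : ℕ) (x : S) : Type u := {y : (T.obj (op ⦋n⦌)).left // str T n y = x}

/-- The face maps on fibres. -/
noncomputable def face {n : ℕ} {x : S} (i : Fin (n + 2)) (y : Fib T (n + 1) x) : Fib T n x :=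
  ⟨(T.map (SimplexCategory.δ i).op).left y.1,
    (congrArg (fun k => k y.1) (Over.w (T.map (SimplexCategory.δ i).op))).trans y.2⟩

/-- An extra degeneracy on the fibres over each point. -/
structure HasFibreContraction : Prop where
  exists_contraction : ∀ x : S, ∃ (h₀ : Fib T 0 x) (h : ∀ n, Fib T n x → Fib T (n + 1) x),
    (∀ n y, face T 0 (h n y) = y) ∧ (∀ y, face T 1 (h 0 y) = h₀) ∧
      ∀ n (i : Fin (n + 2)) y, face T i.succ (h (n + 1) y) = h n (face T i y)

variable {T}

/-- Evaluation of the descent complex at fibre points. -/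
noncomputable def evF {n : ℕ} {x : S} (y : Fib T n x) :
    (sfib x).obj ((cosimp F T).obj ⦋n⦌) ⟶ (sfib x).obj F :=
  ev F (str T n) y.2

lemma δ_evF {n : ℕ} {x : S} (i : Fin (n + 2)) (y : Fib T (n + 1) x) :
    (sfib x).map (coface F T i) ≫ evF F y = evF F (face T i y) :=
  mmap_ev F (str T n) (str T (n + 1)) (T.map (SimplexCategory.δ i).op).left (Over.w _) y.2

/-- The augmentation. -/
noncomputable def aug : F ⟶ (cosimp F T).obj ⦋0⦌ := (pullPushAdj (str T 0)).unit.app F

lemma aug_δ (i : Fin 2) : aug F (T := T) ≫ coface F T i = (pullPushAdj (str T 1)).unit.app F :=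
  unit_mmap F (str T 0) (str T 1) (T.map (SimplexCategory.δ i).op).left (Over.w _)

/-- The differential. -/
noncomputable def dd (n : ℕ) : (cosimp F T).obj ⦋n⦌ ⟶ (cosimp F T).obj ⦋n + 1⦌ :=
  ∑ i : Fin (n + 2), (-1 : ℤ) ^ (i : ℕ) • coface F T i

lemma aug_dd : aug F (T := T) ≫ dd F 0 = 0 := by
  rw [dd, Preadditive.comp_sum, Fin.sum_univ_two, Preadditive.comp_zsmul, Preadditive.comp_zsmul, aug_δ, aug_δ]
  simp

lemma sfib_dd_evF {n : ℕ} {x : S} (y : Fib T (n + 1) x) :
    (sfib x).map (dd F n) ≫ evF F y = ∑ i : Fin (n + 2), (-1 : ℤ) ^ (i : ℕ) • evF F (face T i y) := by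
  rw [dd, Functor.map_sum, Preadditive.sum_comp]
  refine Finset.sum_congr rfl fun i _ => ?_
  rw [Functor.map_zsmul, Preadditive.zsmul_comp, δ_evF]

/-- The descent complex. -/
noncomputable def descCx : CochainComplex (CohTop.Ab S) ℕ :=
  AlgebraicTopology.AlternatingCofaceMapComplex.obj (cosimp F T : CosimplicialObject (CohTop.Ab S))

lemma descCx_d (n : ℕ) : (descCx F (T := T)).d n (n + 1) = dd F n := by
  simp only [descCx, AlgebraicTopology.AlternatingCofaceMapComplex.obj, CochainComplex.of_d]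
  rfl

lemma aug_d : aug F (T := T) ≫ (descCx F).d 0 1 = 0 :=
  (congrArg (aug F (T := T) ≫ ·) (descCx_d F 0)).trans (aug_dd F)

lemma dd_evF {n : ℕ} {x : S} (y : Fib T (n + 1) x) (a : (sfib x).obj ((cosimp F T).obj ⦋n⦌)) :
    evF F y ((sfib x).map (dd F n) a) =
      ∑ i : Fin (n + 2), (-1 : ℤ) ^ (i : ℕ) • evF F (face T i y) a := by
  refine (ConcreteCategory.congr_hom (sfib_dd_evF F y) a).trans ?_
  change ((AddCommGrpCat.homAddEquiv (∑ i : Fin (n + 2), (-1 : ℤ) ^ (i : ℕ) • evF F (face T i y))) a) = _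
  rw [map_sum, AddMonoidHom.finsetSum_apply]
  refine Finset.sum_congr rfl fun i _ => ?_
  rw [map_zsmul]
  rfl

lemma d_evF {n : ℕ} {x : S} (y : Fib T (n + 1) x) (a : (sfib x).obj ((cosimp F T).obj ⦋n⦌)) :
    evF F y ((sfib x).map ((descCx F).d n (n + 1)) a) =
      ∑ i : Fin (n + 2), (-1 : ℤ) ^ (i : ℕ) • evF F (face T i y) a :=
  (congrArg (fun k => evF F y ((sfib x).map k a)) (descCx_d F n)).trans (dd_evF F y a)

lemma exact_of_sfib {Sc : ShortComplex (CohTop.Ab S)} (h : ∀ x, (Sc.map (sfib x)).Exact) : Sc.Exact := by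
  rw [ShortComplex.exact_iff_isZero_homology]
  have hz : ∀ x, IsZero ((sfib x).obj Sc.homology) := fun x =>
    ((ShortComplex.exact_iff_isZero_homology _).1 (h x)).of_iso (Sc.mapHomologyIso (sfib x)).symm
  let z : Sc.homology ⟶ 0 := 0
  haveI : IsIso z := isIso_of_sfib z fun x =>
    ⟨⟨0, (hz x).eq_of_src _ _, ((sfib x).map_isZero (isZero_zero _)).eq_of_src _ _⟩⟩
  exact (isZero_zero _).of_iso (asIso z)

section Exactness

variable (hT : ∀ n, IsClosedSepFibres (str T n)) (hc : HasFibreContraction T)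
include hT

lemma evF_jointly_injective {n : ℕ} {x : S} (a b : (sfib x).obj ((cosimp F T).obj ⦋n⦌))
    (h : ∀ y : Fib T n x, evF F y a = evF F y b) : a = b := by
  refine pushGerm_jointly_injective (hT n) x _ a b fun y hy => ?_
  haveI := isIso_tau (str T n) hy F
  exact ((ConcreteCategory.bijective_of_isIso (inv (tau (str T n) hy F))).1) (h ⟨y, hy⟩)

lemma evF_jointly_surjective {n : ℕ} {x : S} (a : Fib T n x → (sfib x).obj F) :
    ∃ b : (sfib x).obj ((cosimp F T).obj ⦋n⦌), ∀ y, evF F y b = a y := by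
  obtain ⟨b, hb⟩ := exists_glue_fibre (hT n) x _ fun y hy => tau (str T n) hy F (a ⟨y, hy⟩)
  refine ⟨b, fun ⟨y, hy⟩ => ?_⟩
  haveI := isIso_tau (str T n) hy F
  refine (congrArg (inv (tau (str T n) hy F)) (hb y hy)).trans ?_
  exact ConcreteCategory.congr_hom (IsIso.hom_inv_id (tau (str T n) hy F)) (a ⟨y, hy⟩)

include hc

lemma exact_sfib_succ (n : ℕ) (x : S) :
    (((descCx F (T := T)).sc' n (n + 1) (n + 1 + 1)).map (sfib x)).Exact := by
  obtain ⟨h₀, h, h1, h2, h3⟩ := hc.exists_contraction x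
  rw [ShortComplex.ab_exact_iff]
  intro φ hφ
  obtain ⟨b, hb⟩ := evF_jointly_surjective F hT (n := n) (x := x) fun y => evF F (h n y) φ
  refine ⟨b, evF_jointly_injective F hT _ _ fun y => ?_⟩
  refine (d_evF F y b).trans ?_
  have e := (d_evF F (h (n + 1) y) φ).symm.trans (congrArg (evF F (h (n + 1) y)) hφ)
  replace e := e.trans (map_zero (evF F (h (n + 1) y)).hom)
  rw [Fin.sum_univ_succ, h1] at e
  simp only [hb, ← h3]
  refine (sub_eq_zero.1 ?_).symm
  simpa [pow_succ, sub_eq_add_neg] using e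

lemma exact_sfib_zero (x : S) :
    ((ShortComplex.mk (aug F (T := T)) ((descCx F).d 0 1) (aug_d F)).map (sfib x)).Exact ∧
      Mono ((sfib x).map (aug F (T := T))) := by
  obtain ⟨h₀, h, h1, h2, h3⟩ := hc.exists_contraction x
  have hev : ∀ (y : Fib T 0 x) (a : (sfib x).obj F), evF F y ((sfib x).map (aug F (T := T)) a) = a :=
    fun y a => ConcreteCategory.congr_hom (unit_ev F (str T 0) y.2) a
  refine ⟨?_, ?_⟩
  · rw [ShortComplex.ab_exact_iff]
    intro φ hφ
    refine ⟨evF F h₀ φ, evF_jointly_injective F hT _ _ fun y => ?_⟩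
    refine (hev y _).trans ?_
    have e := (d_evF F (h 0 y) φ).symm.trans (congrArg (evF F (h 0 y)) hφ)
    replace e := e.trans (map_zero (evF F (h 0 y)).hom)
    rw [Fin.sum_univ_two, h1, h2] at e
    refine (sub_eq_zero.1 ?_).symm
    simpa [sub_eq_add_neg] using e
  · rw [AddCommGrpCat.mono_iff_injective]
    intro a b hab
    rw [← hev h₀ a, ← hev h₀ b, hab]

include hT hc in
theorem quasiIso_aug :
    QuasiIso ((CochainComplex.fromSingle₀Equiv (descCx F (T := T)) F).symm ⟨aug F, aug_d F⟩) := by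
  refine ⟨fun n => ?_⟩
  cases n with
  | zero =>
    rw [CochainComplex.quasiIsoAt₀_iff, ShortComplex.quasiIso_iff_of_zeros _ (by simp <;> rfl) (by simp <;> rfl)
      (by simp <;> rfl)]
    refine ⟨(ShortComplex.exact_iff_of_iso ?_).1 (exact_of_sfib fun x => (exact_sfib_zero F hT hc x).1), ?_⟩
    · exact ShortComplex.isoMk (Iso.refl _) (Iso.refl _) (Iso.refl _)
        (by simp; exact (Category.id_comp _).trans (Category.comp_id _).symm) (by simp <;> rfl)
    · haveI : Mono (aug F (T := T)) := by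
        refine Preadditive.mono_of_cancel_zero _ fun {W} w hw => ?_
        have he := exact_of_sfib (Sc := ShortComplex.mk (0 : (0 : CohTop.Ab S) ⟶ F) (aug F (T := T)) zero_comp)
          fun x => ?_
        · haveI := he.mono_g rfl
          exact zero_of_comp_mono _ hw
        · haveI := (exact_sfib_zero F hT hc x).2
          exact (ShortComplex.exact_iff_mono _ ((sfib x).map_zero _ _)).2 this
      simp
      exact ‹Mono (aug F)›
  | succ n =>
    rw [quasiIsoAt_iff_exactAt _ _ (HomologicalComplex.exactAt_single_obj _ _ _ _ (by omega)),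
      HomologicalComplex.exactAt_iff' _ n (n + 1) (n + 1 + 1) (by simp) (by simp)]
    exact exact_of_sfib fun x => exact_sfib_succ F hT hc n x

end Exactness

/-- The inverse image of a constant sheaf. -/
noncomputable def pullConstIso {A B : TopCat.{u}} (g : A ⟶ B) :
    constantSheaf (Opens.grothendieckTopology B) AddCommGrpCat.{u} ⋙ CohTop.pull g ≅
      constantSheaf (Opens.grothendieckTopology A) AddCommGrpCat.{u} :=
  Adjunction.leftAdjointUniq
    (((constantSheafAdj _ _ (Preorder.isTerminalTop (Opens B))).comp (pullPushAdj g)).ofNatIsoRight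
      (Iso.refl _))
    (constantSheafAdj _ _ (Preorder.isTerminalTop (Opens A)))

theorem nonempty_H_push_equiv {A B : TopCat.{u}} (g : A ⟶ B) (hg : IsClosedSepFibres g) (G : CohTop.Ab A) (q : ℕ) :
    Nonempty (CohTop.H ((CohTop.push g).obj G) q ≃+ CohTop.H G q) := by
  haveI := preservesFiniteColimits_push hg
  haveI : PreservesFiniteLimits (CohTop.push g) :=
    (pullPushAdj g).rightAdjoint_preservesLimits.{0, 0}.preservesFiniteLimits
  obtain ⟨e⟩ := nonempty_ext_adjunction_equiv (pullPushAdj g) (fun I hI => injective_push I g)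
    ((constantSheaf (Opens.grothendieckTopology B) AddCommGrpCat.{u}).obj (AddCommGrpCat.of (ULift ℤ))) G q
  exact ⟨e.trans (extIsoLeft ((pullConstIso g).app _).symm G q)⟩

/-- The descent spectral sequence, in existence form. -/
theorem exists_descent_spectralSequence (T : SimplicialObject (Over S)) (hT : ∀ n, IsClosedSepFibres (str T n))
    (hc : HasFibreContraction T) :
    ∃ (E : CohomologicalSpectralSequence AddCommGrpCat.{u} 1)
      (a : SpSeq.Abutment E (fun n : ℤ =>
        if 0 ≤ n then AddCommGrpCat.of (CohTop.H F n.toNat) else AddCommGrpCat.of PUnit.{u + 1})),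
      (∀ n, a.IsFinite n) ∧ SpSeq.IsBounded E ∧
      ∀ p q : ℤ, Nonempty ((E.page 1 le_rfl).X (p, q) ≅
        (if 0 ≤ p ∧ 0 ≤ q then
          AddCommGrpCat.of (CohTop.H ((CohTop.pull (str T p.toNat)).obj F) q.toNat)
         else AddCommGrpCat.of PUnit.{u + 1})) := by
  let e := ComplexShape.embeddingUpNat
  let φ := (CochainComplex.fromSingle₀Equiv (descCx F (T := T)) F).symm ⟨aug F, aug_d F⟩
  haveI : QuasiIso φ := quasiIso_aug F hT hc
  let η : (HomologicalComplex.single _ (ComplexShape.up ℤ) 0).obj F ⟶ (descCx F (T := T)).extend e :=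
    (HomologicalComplex.extendSingleIso (X := F) e (i := 0) (i' := (0 : ℤ)) rfl).inv ≫ HomologicalComplex.extendMap φ e
  haveI : QuasiIso (HomologicalComplex.extendMap φ e) := (HomologicalComplex.quasiIso_extendMap_iff φ e).2 ‹_›
  haveI : QuasiIso η := inferInstance
  haveI : CochainComplex.IsStrictlyGE ((descCx F (T := T)).extend e) 0 :=
    (CochainComplex.isStrictlyGE_iff _ _).2 fun i hi =>
      (descCx F (T := T)).isZero_extend_X e i fun j hj => by simp [e] at hj; omega
  obtain ⟨E, a, ha, hb, hE⟩ := exists_resolution_spectralSequence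
    ((constantSheaf (Opens.grothendieckTopology S) AddCommGrpCat.{u}).obj (AddCommGrpCat.of (ULift ℤ))) F _ η
  refine ⟨E, a, ha, hb, fun p q => ?_⟩
  by_cases h : 0 ≤ p ∧ 0 ≤ q
  · obtain ⟨p, rfl⟩ := Int.eq_ofNat_of_zero_le h.1
    obtain ⟨i⟩ := hE p q
    obtain ⟨j⟩ := nonempty_H_push_equiv (str T p) (hT p) ((CohTop.pull (str T p)).obj F) q.toNat
    rw [if_pos h] at i ⊢
    rw [Int.toNat_natCast]
    exact ⟨i ≪≫ (extIsoRight ((descCx F (T := T)).extendXIso e (i := p) (i' := (p : ℤ)) rfl) _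
      q.toNat).toAddCommGrpIso ≪≫
      AddEquiv.toAddCommGrpIso
        (X := AddCommGrpCat.of (CohTop.H ((CohTop.push (str T p)).obj ((CohTop.pull (str T p)).obj F)) q.toNat))
        (Y := AddCommGrpCat.of (CohTop.H ((CohTop.pull (str T p)).obj F) q.toNat)) j⟩
  · obtain ⟨i⟩ := hE p q
    rw [if_neg h] at i ⊢
    exact ⟨i⟩

end Groth.Agent.CohDescent
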