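import Mathlib
import Groth.Agent.CohDescent.DescentComplex
import Groth.Agent.LocCohZBase.InjRestr

/-!
Cohomology of a disjoint union of open subspaces.
-/

set_option autoImplicit false
universe u

open CategoryTheory CategoryTheory.Limits Opposite TopologicalSpace
open CategoryTheory.Abelian
open Groth.SiteCohomology

namespace Groth.Agent.CohDescent

variable {T W : TopCat.{u}}

instance {A B : TopCat.{u}} (g : A ⟶ B) : PreservesFiniteColimits (CohTop.pull g) :=
  haveI := (pullPushAdj g).leftAdjoint_preservesColimits.{0, 0}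
  ⟨fun _ => inferInstance⟩

/-- The unit of a homeomorphism is invertible. -/
theorem isIso_unit_of_iso (h : W ≅ T) (G : CohTop.Ab T) : IsIso ((pullPushAdj h.hom).unit.app G) := by
  refine isIso_of_sfib _ fun x => ?_
  have hy : h.hom (h.inv x) = x := ConcreteCategory.congr_hom h.inv_hom_id x
  have hu : ∀ y, h.hom y = x → y = h.inv x := fun y e => by
    rw [← e]; exact (ConcreteCategory.congr_hom h.hom_inv_id y).symm
  have hh : IsClosedSepFibres h.hom :=
    ⟨(TopCat.homeoOfIso h).isClosedMap, fun z => ⟨fun _ => ⊤, fun _ => trivial, fun a b hab => by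
      exfalso
      exact hab (Subtype.ext ((TopCat.homeoOfIso h).injective (a.2.trans b.2.symm)))⟩⟩
  haveI : IsIso ((sfib x).map ((pullPushAdj h.hom).unit.app G) ≫ pushGerm h.hom hy ((CohTop.pull h.hom).obj G)) :=
    isIso_tau h.hom hy G
  haveI : IsIso (pushGerm h.hom hy ((CohTop.pull h.hom).obj G)) := by
    refine (ConcreteCategory.isIso_iff_bijective _).2 ⟨fun a b e => ?_, fun c => ?_⟩
    · exact pushGerm_jointly_injective hh x _ a b fun y e' => by
        obtain rfl := hu y e'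
        exact e
    · obtain ⟨b, hb⟩ := exists_glue_fibre hh x _ fun y e => (hu y e) ▸ c
      exact ⟨b, hb _ hy⟩
  exact IsIso.of_isIso_comp_right _ (pushGerm h.hom hy ((CohTop.pull h.hom).obj G))

/-- Inverse image along an open embedding preserves injectives. -/
theorem injective_pull_openEmbedding (j : W ⟶ T) (hj : Topology.IsOpenEmbedding j) (I : CohTop.Ab T) [Injective I] :
    Injective ((CohTop.pull j).obj I) := by
  let U : Opens T := ⟨Set.range j, hj.isOpen_range⟩
  let h : W ≅ TopCat.of U := TopCat.isoOfHomeo hj.isEmbedding.toHomeomorph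
  haveI hIU := Groth.LocCohZBase.injective_pull_incl U I
  haveI := isIso_unit_of_iso h ((CohTop.pull (CohCx.incl U)).obj I)
  haveI h1 : Injective ((CohTop.push h.hom).obj ((CohTop.pull h.hom).obj ((CohTop.pull (CohCx.incl U)).obj I))) :=
    Injective.of_iso (asIso ((pullPushAdj h.hom).unit.app _)) hIU
  have h2 := injective_push ((CohTop.push h.hom).obj ((CohTop.pull h.hom).obj ((CohTop.pull (CohCx.incl U)).obj I))) h.inv
  let e1 : CohTop.pull j ≅ CohTop.pull (CohCx.incl U) ⋙ CohTop.pull h.hom :=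
    Adjunction.leftAdjointUniq (pullPushAdj j)
      (((pullPushAdj (CohCx.incl U)).comp (pullPushAdj h.hom)).ofNatIsoRight (Iso.refl _))
  let e2 : CohTop.push h.hom ⋙ CohTop.push h.inv ≅ 𝟭 (CohTop.Ab W) :=
    (Iso.refl _ : CohTop.push h.hom ⋙ CohTop.push h.inv ≅ CohTop.push (h.hom ≫ h.inv)) ≪≫
      eqToIso (congrArg CohTop.push h.hom_inv_id) ≪≫ Iso.refl _
  exact Injective.of_iso (e2.app _ ≪≫ (e1.app I).symm) h2

variable {J : Type u} {P : J → TopCat.{u}} (j : ∀ σ, P σ ⟶ T) (hj : ∀ σ, Topology.IsOpenEmbedding (j σ))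
  (hcov : ∀ y, ∃ σ z, j σ z = y) (hdis : ∀ {σ σ'} (z : P σ) (z' : P σ'), j σ z = j σ' z' → σ = σ')

include hj hcov hdis

theorem bijective_unit_sections (G : CohTop.Ab T) :
    Function.Bijective (fun (s : G.obj.obj (op ⊤)) (σ : J) =>
      ((pullPushAdj (j σ)).unit.app G).hom.app (op ⊤) s) := by
  have hgm : ∀ (σ : J) (z : P σ) (V : Opens T) (hz : j σ z ∈ V) (s : G.obj.obj (op V)),
      tau (j σ) (rfl : j σ z = j σ z) G (gm G (j σ z) V hz s) =
        gm ((CohTop.pull (j σ)).obj G) z ((Opens.map (j σ)).obj V) hz (((pullPushAdj (j σ)).unit.app G).hom.app (op V) s) :=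
    fun σ z V hz s => (congrArg (pushGerm (j σ) rfl _) (gm_map _ _ V hz s)).trans (pushGerm_gm (j σ) rfl _ V hz _)
  have hinj : ∀ (σ : J) (z : P σ), Function.Injective (tau (j σ) (rfl : j σ z = j σ z) G) := fun σ z => by
    haveI := isIso_tau (j σ) (rfl : j σ z = j σ z) G
    exact (ConcreteCategory.bijective_of_isIso _).1
  constructor
  · intro s t h
    refine TopCat.Presheaf.section_ext (G : TopCat.Sheaf AddCommGrpCat T) ⊤ s t fun y _ => ?_
    obtain ⟨σ, z, rfl⟩ := hcov y
    have e : gm G (j σ z) ⊤ trivial s = gm G (j σ z) ⊤ trivial t := hinj σ z (by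
      rw [hgm, hgm]
      exact congrArg _ (congrFun h σ))
    obtain ⟨V, hV, hzV, e'⟩ := gm_eq G (j σ z) _ s t e
    exact TopCat.Presheaf.germ_ext G.obj V hzV (homOfLE hV) (homOfLE hV) e'
  · intro t
    have key : ∀ y : T, ∃ (V : Opens T) (_ : y ∈ V) (a : G.obj.obj (op V)), ∀ (σ : J) (z : P σ) (hz : j σ z ∈ V),
        tau (j σ) (rfl : j σ z = j σ z) G (gm G (j σ z) V hz a) =
          gm ((CohTop.pull (j σ)).obj G) z ((Opens.map (j σ)).obj ⊤) trivial (t σ) := by
      intro y
      obtain ⟨σ, z, rfl⟩ := hcov y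
      haveI := isIso_tau (j σ) (rfl : j σ z = j σ z) G
      obtain ⟨a₀, ha₀⟩ := (ConcreteCategory.bijective_of_isIso (tau (j σ) (rfl : j σ z = j σ z) G)).2
        (gm _ z ((Opens.map (j σ)).obj ⊤) trivial (t σ))
      obtain ⟨V, hV, a, rfl⟩ := gm_surjective G (j σ z) a₀
      rw [hgm, ← gm_res _ z (show (Opens.map (j σ)).obj V ≤ (Opens.map (j σ)).obj ⊤ from le_top) hV] at ha₀
      obtain ⟨V', hV', hzV', e⟩ := gm_eq _ z _ _ _ ha₀
      refine ⟨V ⊓ ⟨j σ '' (V' : Set (P σ)), (hj σ).isOpenMap _ V'.2⟩, ⟨hV, z, hzV', rfl⟩,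
        G.obj.map (homOfLE inf_le_left).op a, fun σ' z' hz' => ?_⟩
      obtain ⟨w, hw, hwe⟩ := hz'.2
      obtain rfl := hdis w z' hwe
      obtain rfl := (hj σ).injective hwe
      rw [gm_res G (j σ w) inf_le_left hz' a, hgm]
      refine (gm_res _ w hV' hw _).symm.trans ?_
      rw [e]
      exact (gm_res _ w hV' hw _).trans (gm_res _ w _ _ _)
    choose V hyV a ha using key
    have hcomp : TopCat.Presheaf.IsCompatible G.obj V a := fun y y' => by
      refine TopCat.Presheaf.section_ext (G : TopCat.Sheaf AddCommGrpCat T) _ _ _ fun w hw => ?_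
      obtain ⟨σ, z, rfl⟩ := hcov w
      have e : gm G (j σ z) (V y) hw.1 (a y) = gm G (j σ z) (V y') hw.2 (a y') :=
        hinj σ z ((ha y σ z hw.1).trans (ha y' σ z hw.2).symm)
      have e' := (gm_res G (j σ z) (inf_le_left : V y ⊓ V y' ≤ V y) hw (a y)).trans
        (e.trans (gm_res G (j σ z) (inf_le_right : V y ⊓ V y' ≤ V y') hw (a y')).symm)
      obtain ⟨V₀, hV₀, hzV₀, e''⟩ := gm_eq G (j σ z) _ _ _ e'
      exact TopCat.Presheaf.germ_ext G.obj V₀ hzV₀ (homOfLE hV₀) (homOfLE hV₀) e''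
    obtain ⟨s, hs, -⟩ := TopCat.Sheaf.existsUnique_gluing' (F := (G : TopCat.Sheaf AddCommGrpCat T)) V ⊤
      (fun y => homOfLE le_top) (fun y _ => Opens.mem_iSup.2 ⟨y, hyV y⟩) a hcomp
    refine ⟨s, funext fun σ => ?_⟩
    refine TopCat.Presheaf.section_ext ((CohTop.pull (j σ)).obj G : TopCat.Sheaf AddCommGrpCat (P σ)) _ _ _
      fun z _ => ?_
    have e : gm _ z ((Opens.map (j σ)).obj ⊤) trivial (((pullPushAdj (j σ)).unit.app G).hom.app (op ⊤) s) =
        gm _ z ((Opens.map (j σ)).obj ⊤) trivial (t σ) := by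
      rw [← hgm σ z ⊤ trivial s, ← ha (j σ z) σ z (hyV _), ← hs (j σ z)]
      exact congrArg _ (gm_res G (j σ z) le_top (hyV (j σ z)) s).symm
    obtain ⟨V₀, hV₀, hzV₀, e''⟩ := gm_eq _ z _ _ _ e
    exact TopCat.Presheaf.germ_ext ((CohTop.pull (j σ)).obj G).obj V₀ hzV₀ (homOfLE hV₀) (homOfLE hV₀) e''

theorem bijective_mapExt_const (G : CohTop.Ab T) (n : ℕ) :
    Function.Bijective (fun (e : Ext ((constantSheaf (Opens.grothendieckTopology T) AddCommGrpCat.{u}).obj
        (AddCommGrpCat.of (ULift ℤ))) G n) (σ : J) => (CohTop.pull (j σ)).mapExtAddHom _ _ n e) := by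
  let Z := (constantSheaf (Opens.grothendieckTopology T) AddCommGrpCat.{u}).obj (AddCommGrpCat.of (ULift ℤ))
  let Φ : ∀ (G : CohTop.Ab T) (n : ℕ), Ext Z G n →+
      ∀ σ, Ext ((CohTop.pull (j σ)).obj Z) ((CohTop.pull (j σ)).obj G) n := fun G n =>
    AddMonoidHom.mk' (fun e σ => (CohTop.pull (j σ)).mapExtAddHom Z G n e) fun a b => funext fun σ => map_add _ a b
  suffices ∀ n G, Function.Bijective (Φ G n) from this n G
  clear n G
  intro n
  induction n with
  | zero =>
    intro G
    let adj := constantSheafAdj (Opens.grothendieckTopology T) AddCommGrpCat.{u} (Preorder.isTerminalTop (Opens T))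
    let u : G.obj.obj (op ⊤) →+ ∀ σ, ((CohTop.push (j σ)).obj ((CohTop.pull (j σ)).obj G)).obj.obj (op ⊤) :=
      AddMonoidHom.mk' (fun s σ => ((pullPushAdj (j σ)).unit.app G).hom.app (op ⊤) s)
        fun a b => funext fun σ => map_add _ a b
    let v := AddEquiv.ofBijective u (bijective_unit_sections j hj hcov hdis G)
    let tr : ∀ σ, ((CohTop.pull (j σ)).obj Z ⟶ (CohTop.pull (j σ)).obj G) →
        (AddCommGrpCat.of (ULift.{u} ℤ) ⟶ ((CohTop.push (j σ)).obj ((CohTop.pull (j σ)).obj G)).obj.obj (op ⊤)) :=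
      fun σ ψ => adj.homEquiv _ _ ((pullPushAdj (j σ)).homEquiv _ _ ψ)
    have htr : ∀ σ, Function.Injective (tr σ) := fun σ a b h =>
      ((pullPushAdj (j σ)).homEquiv _ _).injective ((adj.homEquiv _ _).injective h)
    have hmap : ∀ σ (f : Z ⟶ G), tr σ ((CohTop.pull (j σ)).map f) =
        adj.homEquiv _ _ f ≫ ((pullPushAdj (j σ)).unit.app G).hom.app (op ⊤) := fun σ f => by
      refine (congrArg (adj.homEquiv _ _) (?_ : (pullPushAdj (j σ)).homEquiv Z _ ((CohTop.pull (j σ)).map f) =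
        f ≫ (pullPushAdj (j σ)).unit.app G)).trans (adj.homEquiv_naturality_right _ _)
      rw [Adjunction.homEquiv_unit]
      exact ((pullPushAdj (j σ)).unit.naturality f).symm
    constructor
    · intro a b h
      obtain ⟨f, rfl⟩ := (Ext.mk₀_bijective _ _).2 a
      obtain ⟨f', rfl⟩ := (Ext.mk₀_bijective _ _).2 b
      refine congrArg Ext.mk₀ ((adj.homEquiv _ _).injective (AddCommGrpCat.hom_ext (AddMonoidHom.ext fun k =>
        v.injective (funext fun σ => ?_))))
      have e := congrFun h σ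
      simp only [Φ, AddMonoidHom.mk'_apply, Functor.mapExtAddHom_apply, Ext.mapExactFunctor_mk₀] at e
      have e' := congrArg (tr σ) ((Ext.mk₀_bijective _ _).1 e)
      rw [hmap, hmap] at e'
      exact ConcreteCategory.congr_hom e' k
    · intro e
      choose ψ hψ using fun σ => (Ext.mk₀_bijective _ _).2 (e σ)
      let m : AddCommGrpCat.of (ULift.{u} ℤ) ⟶ G.obj.obj (op ⊤) := AddCommGrpCat.ofHom
        (v.symm.toAddMonoidHom.comp (AddMonoidHom.mk' (fun k σ => tr σ (ψ σ) k) fun a b => funext fun σ => map_add _ a b))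
      refine ⟨Ext.mk₀ ((adj.homEquiv _ _).symm m), funext fun σ => ?_⟩
      simp only [Φ, AddMonoidHom.mk'_apply, Functor.mapExtAddHom_apply, Ext.mapExactFunctor_mk₀]
      refine (congrArg Ext.mk₀ (htr σ ((hmap σ _).trans ?_))).trans (hψ σ)
      rw [Equiv.apply_symm_apply]
      refine AddCommGrpCat.hom_ext (AddMonoidHom.ext fun k => ?_)
      exact congrFun (v.apply_symm_apply fun σ => tr σ (ψ σ) k) σ
  | succ n hn =>
    intro G
    let I : InjectivePresentation G := Classical.arbitrary _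
    let Sc := ShortComplex.mk _ _ (cokernel.condition I.f)
    haveI := I.injective
    have hS : Sc.ShortExact := { exact := ShortComplex.exact_cokernel I.f }
    have hS' : ∀ σ, (Sc.map (CohTop.pull (j σ))).ShortExact := fun σ => hS.map_of_exact _
    have hI : ∀ σ, Injective (Sc.map (CohTop.pull (j σ))).X₂ := fun σ => injective_pull_openEmbedding _ (hj σ) I.J
    refine ⟨(injective_iff_map_eq_zero _).2 fun x hx => ?_, fun y => ?_⟩
    · obtain ⟨x₃, rfl⟩ := Ext.covariant_sequence_exact₁ Z hS x (Ext.eq_zero_of_injective _) rfl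
      have key : ∀ σ, ∃ w, (CohTop.pull (j σ)).mapExtAddHom _ _ n x₃ =
          Ext.comp w (Ext.mk₀ (Sc.map (CohTop.pull (j σ))).g) (add_zero n) := fun σ => by
        have e := congrFun hx σ
        simp only [Φ, AddMonoidHom.mk'_apply, Functor.mapExtAddHom_apply, Ext.mapExactFunctor_comp,
          Ext.mapExactFunctor_extClass _ hS] at e
        obtain ⟨w, hw⟩ := Ext.covariant_sequence_exact₃ _ (hS' σ) _ rfl e
        exact ⟨w, hw.symm⟩
      choose w hw using key
      obtain ⟨x₂, hx₂⟩ := (hn Sc.X₂).2 w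
      have : x₃ = x₂.comp (Ext.mk₀ Sc.g) (add_zero n) := (hn Sc.X₃).1 (funext fun σ => by
        refine (hw σ).trans ?_
        rw [← congrFun hx₂ σ]
        simp only [Φ, AddMonoidHom.mk'_apply, Functor.mapExtAddHom_apply, Ext.mapExactFunctor_comp,
          Ext.mapExactFunctor_mk₀]
        rfl)
      rw [this]
      simp
    · have key : ∀ σ, ∃ w : Ext _ (Sc.map (CohTop.pull (j σ))).X₃ n, w.comp (hS' σ).extClass rfl = y σ := fun σ => by
        haveI := hI σ
        exact Ext.covariant_sequence_exact₁ _ (hS' σ) (y σ) (Ext.eq_zero_of_injective _) rfl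
      choose w hw using key
      obtain ⟨x₃, hx₃⟩ := (hn Sc.X₃).2 w
      refine ⟨x₃.comp hS.extClass rfl, funext fun σ => ?_⟩
      refine Eq.trans ?_ (hw σ)
      rw [← congrFun hx₃ σ]
      simp only [Φ, AddMonoidHom.mk'_apply, Functor.mapExtAddHom_apply, Ext.mapExactFunctor_comp,
        Ext.mapExactFunctor_extClass _ hS]
      rfl

theorem nonempty_H_disjointUnion (G : CohTop.Ab T) (n : ℕ) :
    Nonempty (CohTop.H G n ≃+ ∀ σ, CohTop.H ((CohTop.pull (j σ)).obj G) n) := by
  let Z := (constantSheaf (Opens.grothendieckTopology T) AddCommGrpCat.{u}).obj (AddCommGrpCat.of (ULift ℤ))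
  let Φ : Ext Z G n →+ ∀ σ, Ext ((CohTop.pull (j σ)).obj Z) ((CohTop.pull (j σ)).obj G) n :=
    AddMonoidHom.mk' (fun e σ => (CohTop.pull (j σ)).mapExtAddHom Z G n e) fun a b => funext fun σ => map_add _ a b
  exact ⟨(AddEquiv.ofBijective Φ (bijective_mapExt_const j hj hcov hdis G n)).trans
    (AddEquiv.piCongrRight fun σ => extIsoLeft ((pullConstIso (j σ)).app _).symm _ n)⟩

end Groth.Agent.CohDescent
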