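import Mathlib
import Groth.Agent.CohDescent.DisjointUnion
import Groth.Agent.SiteCohomology.CechResolution

/-!
The free sheaf on the sections of a local homeomorphism and the inverse image functor.
-/

set_option autoImplicit false
universe u

open CategoryTheory CategoryTheory.Limits Opposite TopologicalSpace
open CategoryTheory.Abelian
open Groth.SiteCohomology

namespace Groth.Agent.CohDescent

variable {S T : TopCat.{u}}

lemma sect_ext {G : CohTop.Ab T} {W : Opens T} (s t : G.obj.obj (op W))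
    (h : ∀ (y : T) (hy : y ∈ W), gm G y W hy s = gm G y W hy t) : s = t := by
  refine TopCat.Presheaf.section_ext (G : TopCat.Sheaf AddCommGrpCat T) W s t fun y hy => ?_
  obtain ⟨V, hV, hyV, e⟩ := gm_eq G y hy s t (h y hy)
  exact TopCat.Presheaf.germ_ext G.obj V hyV (homOfLE hV) (homOfLE hV) e

lemma gm_congr {G : CohTop.Ab T} {W : Opens T} {s t : G.obj.obj (op W)} {y y' : T} (e : y' = y) (h' : y' ∈ W)
    (h : y ∈ W) (he : gm G y' W h' s = gm G y' W h' t) : gm G y W h s = gm G y W h t := by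
  subst e; exact he

lemma exists_glue_germs (G : CohTop.Ab T) (W : Opens T) (a : ∀ y ∈ W, (sfib y).obj G)
    (hloc : ∀ y ∈ W, ∃ (V : Opens T) (hV : V ≤ W) (_ : y ∈ V) (t : G.obj.obj (op V)),
      ∀ z (hz : z ∈ V), gm G z V hz t = a z (hV hz)) :
    ∃ t : G.obj.obj (op W), ∀ y (hy : y ∈ W), gm G y W hy t = a y hy := by
  choose V hVW hyV t ht using hloc
  have hcomp : TopCat.Presheaf.IsCompatible G.obj (fun i : W => V i.1 i.2) (fun i => t i.1 i.2) := fun i j => by
    refine sect_ext _ _ fun z hz => ?_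
    exact (gm_res G z (inf_le_left : V i.1 i.2 ⊓ V j.1 j.2 ≤ _) hz _).trans
      ((ht i.1 i.2 z hz.1).trans ((ht j.1 j.2 z hz.2).symm.trans
        (gm_res G z (inf_le_right : V i.1 i.2 ⊓ V j.1 j.2 ≤ _) hz _).symm))
  obtain ⟨s, hs, -⟩ := TopCat.Sheaf.existsUnique_gluing' (F := (G : TopCat.Sheaf AddCommGrpCat T))
    (fun i : W => V i.1 i.2) W (fun i => homOfLE (hVW i.1 i.2))
    (fun y hy => Opens.mem_iSup.2 ⟨⟨y, hy⟩, hyV y hy⟩) (fun i => t i.1 i.2) hcomp
  refine ⟨s, fun y hy => ?_⟩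
  rw [← ht y hy y (hyV y hy), ← gm_res G y (hVW y hy) (hyV y hy) s]
  exact congrArg _ (hs ⟨y, hy⟩)

variable (g : T ⟶ S)

/-- The continuous sections of `g` over opens with values in `W`. -/
noncomputable def secs (W : Opens T) : (Opens S)ᵒᵖ ⥤ Type u where
  obj V := {s : C(V.unop, T) // (∀ v, g (s v) = v.1) ∧ ∀ v, s v ∈ W}
  map {V V'} i := ↾fun s => ⟨s.1.comp ⟨fun v => ⟨v.1, i.unop.le v.2⟩,
    continuous_subtype_val.subtype_mk _⟩, fun v => s.2.1 _, fun v => s.2.2 _⟩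
  map_id _ := rfl
  map_comp _ _ := rfl

/-- The comparison map on sections. -/
noncomputable abbrev pb (G : CohTop.Ab S) (V : Opens S) :
    G.obj.obj (op V) ⟶ ((CohTop.pull g).obj G).obj.obj (op ((Opens.map g).obj V)) :=
  ((pullPushAdj g).unit.app G).hom.app (op V)

lemma tau_gm (G : CohTop.Ab S) {x : S} {y : T} (h : g y = x) (V : Opens S) (hx : x ∈ V) (s : G.obj.obj (op V)) :
    tau g h G (gm G x V hx s) = gm _ y ((Opens.map g).obj V) (by subst h; exact hx) (pb g G V s) :=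
  (congrArg (pushGerm g h _) (gm_map _ x V hx s)).trans (pushGerm_gm g h _ V hx _)

lemma bijective_tau (G : CohTop.Ab S) {x : S} {y : T} (h : g y = x) : Function.Bijective (tau g h G) :=
  haveI := isIso_tau g h G
  ConcreteCategory.bijective_of_isIso _

variable {g} (hg : IsLocalHomeomorph g)
include hg

lemma exists_secs_through (W : Opens T) {y : T} (hy : y ∈ W) :
    ∃ (V : Opens S) (s : (secs g W).obj (op V)) (hx : g y ∈ V), s.1 ⟨g y, hx⟩ = y := by
  obtain ⟨e, hye, he⟩ := hg y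
  let O : Set T := e.source ∩ W
  have hO : IsOpen O := e.open_source.inter W.2
  have hOV : e '' O ⊆ e.target := fun _ ⟨z, hz, hze⟩ => hze ▸ e.map_source hz.1
  let V : Opens S := ⟨e '' O, e.isOpen_image_of_subset_source hO Set.inter_subset_left⟩
  let s : C(V, T) := ⟨fun v => e.symm v.1,
    e.continuousOn_symm.comp_continuous continuous_subtype_val fun v => hOV v.2⟩
  have hs : ∀ (v : V), ∃ z ∈ O, e.symm v.1 = z ∧ e z = v.1 := fun v => by
    obtain ⟨z, hz, hze⟩ := v.2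
    exact ⟨z, hz, by rw [← hze, e.left_inv hz.1], hze⟩
  refine ⟨V, ⟨s, fun v => ?_, fun v => ?_⟩, ⟨y, ⟨hye, hy⟩, congrFun he.symm y⟩, ?_⟩
  · obtain ⟨z, hz, h1, h2⟩ := hs v
    change g (e.symm v.1) = v.1
    rw [h1, he, h2]
  · obtain ⟨z, hz, h1, -⟩ := hs v
    change e.symm v.1 ∈ W
    rw [h1]
    exact hz.2
  · change e.symm (g y) = y
    rw [he, e.left_inv hye]

lemma eventually_eq_secs {W W' : Opens T} {V V' : Opens S} (s : (secs g W).obj (op V)) (s' : (secs g W').obj (op V'))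
    (x : S) (hx : x ∈ V) (hx' : x ∈ V') (h : s.1 ⟨x, hx⟩ = s'.1 ⟨x, hx'⟩) :
    ∃ (V₀ : Opens S) (h₀ : V₀ ≤ V) (h₀' : V₀ ≤ V'), x ∈ V₀ ∧
      ∀ v (hv : v ∈ V₀), s.1 ⟨v, h₀ hv⟩ = s'.1 ⟨v, h₀' hv⟩ := by
  obtain ⟨e, hye, he⟩ := hg (s.1 ⟨x, hx⟩)
  obtain ⟨A, hA, hAe⟩ := isOpen_induced_iff.1 (e.open_source.preimage s.1.continuous)
  obtain ⟨A', hA', hAe'⟩ := isOpen_induced_iff.1 (e.open_source.preimage s'.1.continuous)
  refine ⟨⟨A ∩ V ∩ (A' ∩ V'), (hA.inter V.2).inter (hA'.inter V'.2)⟩, fun v hv => hv.1.2, fun v hv => hv.2.2,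
    ⟨⟨(Set.ext_iff.1 hAe ⟨x, hx⟩).2 hye, hx⟩, (Set.ext_iff.1 hAe' ⟨x, hx'⟩).2 (h ▸ hye : _ ∈ e.source), hx'⟩,
    fun v hv => e.injOn ((Set.ext_iff.1 hAe ⟨v, hv.1.2⟩).1 hv.1.1) ((Set.ext_iff.1 hAe' ⟨v, hv.2.2⟩).1 hv.2.1) ?_⟩
  rw [← he]
  exact (s.2.1 _).trans (Eq.symm (s'.2.1 ⟨v, hv.2.2⟩))

lemma isOpen_range_secs {W : Opens T} {V : Opens S} (s : (secs g W).obj (op V)) : IsOpen (Set.range s.1) := by
  have h : Topology.IsOpenEmbedding (g ∘ s.1) := by
    rw [show g ∘ s.1 = Subtype.val from funext s.2.1]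
    exact V.2.isOpenEmbedding_subtypeVal
  exact (hg.isOpenEmbedding_of_comp h s.1.continuous).isOpen_range

variable {G : CohTop.Ab S} {W : Opens T}

lemma gm_nat_eq (φ : secs g W ⟶ G.obj ⋙ forget AddCommGrpCat.{u}) {V V' : Opens S} (s : (secs g W).obj (op V))
    (s' : (secs g W).obj (op V')) (x : S) (hx : x ∈ V) (hx' : x ∈ V') (h : s.1 ⟨x, hx⟩ = s'.1 ⟨x, hx'⟩) :
    gm G x V hx (φ.app (op V) s) = gm G x V' hx' (φ.app (op V') s') := by
  obtain ⟨V₀, h₀, h₀', hx₀, e⟩ := eventually_eq_secs hg s s' x hx hx' h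
  have e' : (secs g W).map (homOfLE h₀).op s = (secs g W).map (homOfLE h₀').op s' :=
    Subtype.ext (ContinuousMap.ext fun v => e v.1 v.2)
  have e1 := NatTrans.naturality_apply φ (homOfLE h₀).op s
  have e2 := NatTrans.naturality_apply φ (homOfLE h₀').op s'
  rw [← gm_res G x h₀ hx₀, ← gm_res G x h₀' hx₀]
  exact congrArg _ (e1.symm.trans ((congrArg _ e').trans e2))

/-- The germs attached to a map out of the sections. -/
noncomputable def germOf (φ : secs g W ⟶ G.obj ⋙ forget AddCommGrpCat.{u}) (y : T) (hy : y ∈ W) :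
    (sfib y).obj ((CohTop.pull g).obj G) :=
  tau g (rfl : g y = g y) G (gm G (g y) (exists_secs_through hg W hy).choose
    (exists_secs_through hg W hy).choose_spec.choose_spec.choose
    (φ.app (op (exists_secs_through hg W hy).choose) (exists_secs_through hg W hy).choose_spec.choose))

lemma germOf_eq (φ : secs g W ⟶ G.obj ⋙ forget AddCommGrpCat.{u}) {y : T} (hy : y ∈ W) {V : Opens S}
    (s : (secs g W).obj (op V)) {x : S} (hx : x ∈ V) (h : s.1 ⟨x, hx⟩ = y) (hxy : g y = x) :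
    germOf hg φ y hy = tau g hxy G (gm G x V hx (φ.app (op V) s)) := by
  subst hxy
  refine congrArg _ (gm_nat_eq hg φ _ s (g y) _ hx ?_)
  exact (exists_secs_through hg W hy).choose_spec.choose_spec.choose_spec.trans h.symm

lemma exists_sectOf (φ : secs g W ⟶ G.obj ⋙ forget AddCommGrpCat.{u}) :
    ∃ t : ((CohTop.pull g).obj G).obj.obj (op W), ∀ y (hy : y ∈ W), gm _ y W hy t = germOf hg φ y hy := by
  refine exists_glue_germs _ W _ fun y hy => ?_
  obtain ⟨V, s, hx, hsy⟩ := exists_secs_through hg W hy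
  have hle : (⟨Set.range s.1, isOpen_range_secs hg s⟩ : Opens T) ≤ (Opens.map g).obj V := by
    rintro _ ⟨v, rfl⟩
    change g (s.1 v) ∈ V
    rw [s.2.1]
    exact v.2
  refine ⟨⟨Set.range s.1, isOpen_range_secs hg s⟩, by rintro _ ⟨v, rfl⟩; exact s.2.2 v, ⟨_, hsy⟩,
    ((CohTop.pull g).obj G).obj.map (homOfLE hle).op (pb g G V (φ.app (op V) s)), fun z hz => ?_⟩
  rw [gm_res]
  obtain ⟨v, rfl⟩ := hz
  exact ((germOf_eq hg φ (s.2.2 v) s v.2 rfl (s.2.1 v)).trans (tau_gm g G _ V v.2 _)).symm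

/-- The section attached to a map out of the sections. -/
noncomputable def sectOf (φ : secs g W ⟶ G.obj ⋙ forget AddCommGrpCat.{u}) :
    ((CohTop.pull g).obj G).obj.obj (op W) :=
  (exists_sectOf hg φ).choose

lemma gm_sectOf (φ : secs g W ⟶ G.obj ⋙ forget AddCommGrpCat.{u}) {V : Opens S} (s : (secs g W).obj (op V))
    {x : S} (hx : x ∈ V) :
    gm _ (s.1 ⟨x, hx⟩) W (s.2.2 _) (sectOf hg φ) = tau g (s.2.1 _) G (gm G x V hx (φ.app (op V) s)) :=
  ((exists_sectOf hg φ).choose_spec _ _).trans (germOf_eq hg φ _ s hx rfl _)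

lemma sect_ext_secs {t t' : ((CohTop.pull g).obj G).obj.obj (op W)}
    (h : ∀ (V : Opens S) (s : (secs g W).obj (op V)) (x : S) (hx : x ∈ V),
      gm _ (s.1 ⟨x, hx⟩) W (s.2.2 _) t = gm _ (s.1 ⟨x, hx⟩) W (s.2.2 _) t') : t = t' := by
  refine sect_ext _ _ fun y hy => ?_
  obtain ⟨V, s, hx, hsy⟩ := exists_secs_through hg W hy
  exact gm_congr hsy _ hy (h V s _ hx)

theorem bijective_sectOf : Function.Bijective (sectOf hg : (secs g W ⟶ G.obj ⋙ forget AddCommGrpCat.{u}) → _) := by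
  constructor
  · intro φ ψ h
    apply NatTrans.ext
    funext ⟨V⟩
    ext s
    refine sect_ext (G := G) _ _ fun x hx => (bijective_tau g G (s.2.1 ⟨x, hx⟩)).1 ?_
    exact (gm_sectOf hg φ s hx).symm.trans ((congrArg _ h).trans (gm_sectOf hg ψ s hx))
  · intro t
    have key : ∀ (V : Opens S) (s : (secs g W).obj (op V)), ∃ r : G.obj.obj (op V), ∀ x (hx : x ∈ V),
        tau g (s.2.1 ⟨x, hx⟩) G (gm G x V hx r) = gm _ (s.1 ⟨x, hx⟩) W (s.2.2 _) t := by
      intro V s
      choose a ha using fun (x : S) (hx : x ∈ V) =>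
        (bijective_tau g G (s.2.1 ⟨x, hx⟩)).2 (gm _ (s.1 ⟨x, hx⟩) W (s.2.2 _) t)
      obtain ⟨r, hr⟩ := exists_glue_germs G V a fun x hx => by
        obtain ⟨V₀, hx₀, r₀, hr₀⟩ := gm_surjective G x (a x hx)
        have h0 := ha x hx
        rw [← hr₀, tau_gm, ← gm_res _ _ (inf_le_left : (Opens.map g).obj V₀ ⊓ W ≤ _)
          ⟨(show g (s.1 ⟨x, hx⟩) ∈ V₀ by rw [s.2.1]; exact hx₀), s.2.2 _⟩,
          ← gm_res _ _ (inf_le_right : (Opens.map g).obj V₀ ⊓ W ≤ W)
          ⟨(show g (s.1 ⟨x, hx⟩) ∈ V₀ by rw [s.2.1]; exact hx₀), s.2.2 _⟩ t] at h0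
        obtain ⟨N, hN, hyN, e⟩ := gm_eq _ _ _ _ _ h0
        obtain ⟨B, hB, hBe⟩ := isOpen_induced_iff.1 (N.2.preimage s.1.continuous)
        let B' : Opens S := ⟨B ∩ V₀ ∩ V, (hB.inter V₀.2).inter V.2⟩
        have hB' : B' ≤ V := fun v hv => hv.2
        refine ⟨B', hB',
          ⟨⟨(Set.ext_iff.1 hBe ⟨x, hx⟩).2 hyN, hx₀⟩, hx⟩,
          G.obj.map (homOfLE (show B' ≤ V₀ from fun v hv => hv.1.2)).op r₀, fun v hv => ?_⟩
        refine (bijective_tau g G (s.2.1 ⟨v, hv.2⟩)).1 ?_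
        have hvN : s.1 ⟨v, hv.2⟩ ∈ N := (Set.ext_iff.1 hBe ⟨v, hv.2⟩).1 hv.1.1
        rw [ha v hv.2, gm_res, tau_gm]
        refine (gm_res _ _ (hN.trans inf_le_left) hvN _).symm.trans (Eq.trans ?_ (gm_res _ _ (hN.trans inf_le_right) hvN _))
        exact congrArg _ (((res_res _ _ _ _ _).symm.trans e).trans (res_res _ _ _ _ _))
      exact ⟨r, fun x hx => (congrArg _ (hr x hx)).trans (ha x hx)⟩
    choose r hr using key
    let φ : secs g W ⟶ G.obj ⋙ forget AddCommGrpCat.{u} :=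
      { app := fun V => ↾fun s => r V.unop s
        naturality := fun V V' i => by
          ext s
          refine sect_ext (G := G) _ _ fun x hx => (bijective_tau g G ((((secs g W).map i s)).2.1 ⟨x, hx⟩)).1 ?_
          refine (hr V'.unop _ x hx).trans ((hr V.unop s x (i.unop.le hx)).symm.trans ?_)
          refine congrArg (tau g _ G) ?_
          exact (gm_res G x i.unop.le hx (r V.unop s)).symm }
    refine ⟨φ, sect_ext_secs hg fun V s x hx => ?_⟩
    rw [gm_sectOf]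
    exact hr V s x hx

lemma sectOf_comp {G' : CohTop.Ab S} (φ : secs g W ⟶ G.obj ⋙ forget AddCommGrpCat.{u}) (ψ : G ⟶ G') :
    sectOf hg (φ ≫ Functor.whiskerRight ψ.hom (forget AddCommGrpCat.{u})) =
      ((CohTop.pull g).map ψ).hom.app (op W) (sectOf hg φ) := by
  refine sect_ext_secs hg fun V s x hx => ?_
  rw [gm_sectOf, ← gm_map, gm_sectOf, tau_gm, tau_gm, gm_map]
  exact congrArg _ (ConcreteCategory.congr_hom
    (congrArg (fun k => k.hom.app (op V)) ((pullPushAdj g).unit.naturality ψ)) (φ.app (op V) s))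

omit hg in
/-- The inclusion of sections with values in a smaller open. -/
noncomputable def secsMap {W W' : Opens T} (h : W ≤ W') : secs g W ⟶ secs g W' where
  app V := ↾fun s => ⟨s.1, s.2.1, fun v => h (s.2.2 v)⟩
  naturality _ _ _ := rfl

instance mono_secsMap {W W' : Opens T} (h : W ≤ W') : Mono (secsMap (g := g) h) :=
  have : ∀ V, Mono ((secsMap (g := g) h).app V) := fun V => by
    rw [mono_iff_injective]
    intro a b e
    apply Subtype.ext
    have e' := congrArg (fun z => z.1) e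
    exact e'
  NatTrans.mono_of_mono_app _

lemma sectOf_secsMap {W' : Opens T} (h : W' ≤ W) (φ : secs g W ⟶ G.obj ⋙ forget AddCommGrpCat.{u}) :
    sectOf hg (secsMap h ≫ φ) = ((CohTop.pull g).obj G).obj.map (homOfLE h).op (sectOf hg φ) := by
  refine sect_ext_secs hg fun V s x hx => ?_
  rw [gm_sectOf, gm_res]
  exact (gm_sectOf hg φ ((secsMap h).app (op V) s) hx).symm

/-- Maps out of the free sheaf on the sections are sections of the inverse image. -/
noncomputable def freeSecEquiv (W : Opens T) (G : CohTop.Ab S) :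
    ((freeSh (Opens.grothendieckTopology S)).obj (secs g W) ⟶ G) ≃+ ((CohTop.pull g).obj G).obj.obj (op W) :=
  AddEquiv.mk' (((freeShAdj _).homEquiv _ _).trans (Equiv.ofBijective _ (bijective_sectOf hg))) fun f f' => by
    refine sect_ext_secs hg fun V s x hx => ?_
    simp only [Equiv.trans_apply, Equiv.ofBijective_apply]
    refine (gm_sectOf hg _ s hx).trans (Eq.trans ?_ (map_add _ _ _).symm)
    refine Eq.trans ?_ (congrArg₂ (· + ·) (gm_sectOf hg _ s hx).symm (gm_sectOf hg _ s hx).symm)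
    refine Eq.trans ?_ (map_add (tau g (s.2.1 ⟨x, hx⟩) G).hom _ _)
    refine congrArg _ (Eq.trans ?_ (map_add (gm G x V hx).hom _ _))
    rfl

lemma freeSecEquiv_apply (W : Opens T) (G : CohTop.Ab S)
    (f : (freeSh (Opens.grothendieckTopology S)).obj (secs g W) ⟶ G) :
    freeSecEquiv hg W G f = sectOf hg ((freeShAdj _).homEquiv _ _ f) := rfl

lemma freeSecEquiv_comp (W : Opens T) {G G' : CohTop.Ab S}
    (f : (freeSh (Opens.grothendieckTopology S)).obj (secs g W) ⟶ G) (ψ : G ⟶ G') :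
    freeSecEquiv hg W G' (f ≫ ψ) = ((CohTop.pull g).map ψ).hom.app (op W) (freeSecEquiv hg W G f) := by
  rw [freeSecEquiv_apply, freeSecEquiv_apply, ← sectOf_comp, Adjunction.homEquiv_naturality_right]
  rfl

theorem isFlasque_pull (I : CohTop.Ab S) [Injective I] : TopCat.Sheaf.IsFlasque ((CohTop.pull g).obj I) := by
  refine (isFlasque_iff_surjective _).2 fun U V i t => ?_
  haveI := mono_freeSh_map (Opens.grothendieckTopology S) (secsMap (g := g) i.le)
  obtain ⟨f, rfl⟩ := (freeSecEquiv hg V I).surjective t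
  refine ⟨freeSecEquiv hg U I (Injective.factorThru f ((freeSh _).map (secsMap i.le))), ?_⟩
  conv_rhs => rw [← Injective.comp_factorThru f ((freeSh _).map (secsMap (g := g) i.le)), freeSecEquiv_apply,
    Adjunction.homEquiv_naturality_left, sectOf_secsMap hg i.le]
  rfl

omit hg in
theorem nonempty_ext_equiv_of_natIso_zero {C D : Type*} [Category C] [Abelian C] [EnoughInjectives C] [HasExt.{u} C]
    [Category D] [Abelian D] [HasExt.{u} D] (Φ : C ⥤ D) [Φ.Additive] [PreservesFiniteLimits Φ]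
    [PreservesFiniteColimits Φ] (X : C) (Z : D) (e : ∀ G, (X ⟶ G) ≃+ (Z ⟶ Φ.obj G))
    (he : ∀ {G G'} (f : X ⟶ G) (ψ : G ⟶ G'), e G' (f ≫ ψ) = e G f ≫ Φ.map ψ)
    (hac : ∀ (I : C) [Injective I] (n : ℕ), Subsingleton (Ext Z (Φ.obj I) (n + 1))) :
    ∀ (n : ℕ) (G : C), Nonempty (Ext X G n ≃+ Ext Z (Φ.obj G) n) := by
  intro n
  induction n with
  | zero => exact fun G => ⟨(Ext.addEquiv₀.trans (e G)).trans Ext.addEquiv₀.symm⟩
  | succ n ih =>
    intro G
    let S₀ := injSES G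
    have hS : S₀.ShortExact := injSES_shortExact G
    have hS' : (S₀.map Φ).ShortExact := hS.map_of_exact _
    haveI hI : Injective S₀.X₂ := inferInstanceAs (Injective (Injective.under G))
    let δ : Ext X S₀.X₃ n →+ Ext X G (n + 1) := hS.extClass.postcomp X rfl
    let δ' : Ext Z (S₀.map Φ).X₃ n →+ Ext Z (Φ.obj G) (n + 1) := hS'.extClass.postcomp Z rfl
    have hδ : Function.Surjective δ := fun x => by
      obtain ⟨y, hy⟩ := Ext.covariant_sequence_exact₁ X hS x (Ext.eq_zero_of_injective _) (rfl : n + 1 = n + 1)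
      exact ⟨y, hy⟩
    have hδ' : Function.Surjective δ' := fun x => by
      haveI : Subsingleton (Ext Z (S₀.map Φ).X₂ (n + 1)) := hac S₀.X₂ n
      exact ext_surjective_postcomp_extClass hS' Z n x
    obtain ⟨ε, hker⟩ : ∃ ε : Ext X S₀.X₃ n ≃+ Ext Z (S₀.map Φ).X₃ n, ∀ x, δ x = 0 ↔ δ' (ε x) = 0 := by
      cases n with
      | zero =>
        let ε : Ext X S₀.X₃ 0 ≃+ Ext Z (S₀.map Φ).X₃ 0 := (Ext.addEquiv₀.trans (e S₀.X₃)).trans Ext.addEquiv₀.symm
        have hmk : ∀ f, ε (Ext.mk₀ f) = Ext.mk₀ (e S₀.X₃ f) := fun f =>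
          congrArg (fun k => Ext.addEquiv₀.symm (e S₀.X₃ k)) (Ext.addEquiv₀.apply_symm_apply f)
        refine ⟨ε, fun x => ⟨fun h => ?_, fun h => ?_⟩⟩
        · obtain ⟨w, hw⟩ := Ext.covariant_sequence_exact₃ X hS x rfl h
          obtain ⟨w, rfl⟩ := (Ext.mk₀_bijective _ _).2 w
          rw [← hw, Ext.mk₀_comp_mk₀, hmk, he]
          change (Ext.mk₀ (e S₀.X₂ w ≫ (S₀.map Φ).g)).comp hS'.extClass (rfl : 0 + 1 = 0 + 1) = 0
          rw [← Ext.mk₀_comp_mk₀]
          exact (Ext.comp_assoc_of_second_deg_zero _ _ _ _).trans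
            ((congrArg (fun z => Ext.comp _ z _) hS'.comp_extClass).trans (Ext.comp_zero _ _ _ _ _))
        · obtain ⟨w, hw⟩ := Ext.covariant_sequence_exact₃ Z hS' (ε x) rfl h
          obtain ⟨w, rfl⟩ := (Ext.mk₀_bijective _ _).2 w
          obtain ⟨w, rfl⟩ := (e S₀.X₂).surjective w
          have hx : x = (Ext.mk₀ w).comp (Ext.mk₀ S₀.g) (add_zero 0) := by
            refine ε.injective (hw.symm.trans ?_)
            rw [Ext.mk₀_comp_mk₀, Ext.mk₀_comp_mk₀, hmk, he]
            rfl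
          rw [hx]
          change ((Ext.mk₀ w).comp (Ext.mk₀ S₀.g) (add_zero 0)).comp hS.extClass (rfl : 0 + 1 = 0 + 1) = 0
          exact (Ext.comp_assoc_of_second_deg_zero _ _ _ _).trans
            ((congrArg (fun z => Ext.comp _ z _) hS.comp_extClass).trans (Ext.comp_zero _ _ _ _ _))
      | succ m =>
        obtain ⟨ε⟩ := ih S₀.X₃
        refine ⟨ε, fun x => ⟨fun h => ?_, fun h => ?_⟩⟩
        · obtain ⟨w, hw⟩ := Ext.covariant_sequence_exact₃ X hS x rfl h
          rw [show x = 0 by rw [← hw, Ext.eq_zero_of_injective w, Ext.zero_comp], map_zero, map_zero]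
        · obtain ⟨w, hw⟩ := Ext.covariant_sequence_exact₃ Z hS' (ε x) rfl h
          haveI : Subsingleton (Ext Z (S₀.map Φ).X₂ (m + 1)) := hac S₀.X₂ m
          have hx : x = 0 := ε.injective (by rw [map_zero, ← hw, Subsingleton.elim w 0, Ext.zero_comp]; rfl)
          rw [hx, map_zero]
    let ψ : Ext X S₀.X₃ n →+ Ext Z (Φ.obj G) (n + 1) := δ'.comp ε.toAddMonoidHom
    have hψ : Function.Surjective ψ := hδ'.comp ε.surjective
    have hk : δ.ker = ψ.ker := by
      ext x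
      exact hker x
    exact ⟨((QuotientAddGroup.quotientKerEquivOfSurjective δ hδ).symm.trans
      (QuotientAddGroup.quotientAddEquivOfEq hk)).trans (QuotientAddGroup.quotientKerEquivOfSurjective ψ hψ)⟩

instance additive_pull {A B : TopCat.{u}} (h : A ⟶ B) : (CohTop.pull h).Additive :=
  Functor.additive_of_preserves_binary_products _

theorem nonempty_ext_freeSecs_equiv (G : CohTop.Ab S) (n : ℕ) :
    Nonempty (Ext ((freeSh (Opens.grothendieckTopology S)).obj (secs g ⊤)) G n ≃+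
      CohTop.H ((CohTop.pull g).obj G) n) := by
  let J := Opens.grothendieckTopology T
  let e : ∀ G : CohTop.Ab S, ((freeSh (Opens.grothendieckTopology S)).obj (secs g ⊤) ⟶ G) ≃+
      (CohCx.freeSheaf J (⊤ : Opens T) ⟶ (CohTop.pull g).obj G) := fun G =>
    (freeSecEquiv hg ⊤ G).trans (CohFree.homEquivSect J ⊤ ((CohTop.pull g).obj G)).symm
  have he : ∀ {G G' : CohTop.Ab S} (f : (freeSh (Opens.grothendieckTopology S)).obj (secs g ⊤) ⟶ G) (ψ : G ⟶ G'),
      e G' (f ≫ ψ) = e G f ≫ (CohTop.pull g).map ψ := fun f ψ => by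
    change CohFree.ofSect J ⊤ _ (freeSecEquiv hg ⊤ _ (f ≫ ψ)) = CohFree.ofSect J ⊤ _ _ ≫ _
    rw [freeSecEquiv_comp, ofSect_comp]
    rfl
  have hac : ∀ (I : CohTop.Ab S) [Injective I] (m : ℕ),
      Subsingleton (Ext (CohCx.freeSheaf J (⊤ : Opens T)) ((CohTop.pull g).obj I) (m + 1)) := fun I _ m => by
    haveI := isFlasque_pull hg I
    exact subsingleton_HU_succ_of_flasque _ ⊤ m
  obtain ⟨ε⟩ := nonempty_ext_equiv_of_natIso_zero (CohTop.pull g) _ (CohCx.freeSheaf J (⊤ : Opens T)) e he hac n G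
  exact ⟨ε.trans (HUTopEquiv _ n)⟩

end Groth.Agent.CohDescent
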