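import Mathlib
import Groth.Agent.CohDescent.ResolutionSS
import Groth.Agent.SiteCohomology.ExtBasic
import Groth.Agent.SiteCohomology.AcyclicResolution
import Groth.Agent.SiteCohomology.Free

/-!
The derived category of the opposite category, and `Ext` in the opposite category.
-/

set_option autoImplicit false
universe v u

open CategoryTheory CategoryTheory.Limits Opposite
open CategoryTheory.Abelian

namespace Groth.Agent.CohDescent

section Restriction

variable {ι ι' : Type*} {c : ComplexShape ι} {c' : ComplexShape ι'} {A : Type u} [Category.{v} A] [Abelian A]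

lemma quasiIsoAt_restrictionMap_iff {K L : HomologicalComplex A c'} (φ : K ⟶ L) (e : c.Embedding c') [e.IsRelIff]
    (i j k : ι) (hi : c.prev j = i) (hk : c.next j = k) (hi' : c'.prev (e.f j) = e.f i) (hk' : c'.next (e.f j) = e.f k) :
    QuasiIsoAt (HomologicalComplex.restrictionMap φ e) j ↔ QuasiIsoAt φ (e.f j) := by
  rw [quasiIsoAt_iff' _ i j k hi hk, quasiIsoAt_iff' _ (e.f i) (e.f j) (e.f k) hi' hk']
  refine ShortComplex.quasiIso_iff_of_arrow_mk_iso _ _ (Arrow.isoMk
    (HomologicalComplex.restriction.sc'Iso K e i j k rfl rfl rfl hi' hk')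
    (HomologicalComplex.restriction.sc'Iso L e i j k rfl rfl rfl hi' hk') ?_)
  ext <;> simp [HomologicalComplex.restriction.sc'Iso, HomologicalComplex.restrictionXIso] <;>
    exact (Category.id_comp _).trans (Category.comp_id _).symm

end Restriction

variable (A : Type u) [Category.{v} A] [Abelian A]

lemma quasiIso_opEquivalence_functor_map {K L : CochainComplex A ℤ} (φ : L ⟶ K) :
    QuasiIso ((CochainComplex.opEquivalence A).functor.map φ.op) ↔ QuasiIso φ := by
  have e : ∀ n : ℤ, QuasiIsoAt ((CochainComplex.opEquivalence A).functor.map φ.op) n ↔ QuasiIsoAt φ (-n) := fun n => by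
    haveI : (show (ComplexShape.up ℤ).Embedding (ComplexShape.up ℤ).symm from
        ComplexShape.embeddingUpIntDownInt).IsRelIff :=
      inferInstanceAs ComplexShape.embeddingUpIntDownInt.IsRelIff
    refine (quasiIsoAt_restrictionMap_iff ((HomologicalComplex.opFunctor A (ComplexShape.up ℤ)).map φ.op)
      (show (ComplexShape.up ℤ).Embedding (ComplexShape.up ℤ).symm from
        ComplexShape.embeddingUpIntDownInt) (n - 1) n (n + 1) (by simp) (by simp) ?_ ?_).trans
      (HomologicalComplex.quasiIsoAt_opFunctor_map_iff φ (-n))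
    · apply ComplexShape.prev_eq'; simp; lia
    · apply ComplexShape.next_eq'; simp; try lia
  constructor
  · intro h
    exact ⟨fun n => neg_neg n ▸ (e (-n)).1 inferInstance⟩
  · intro h
    exact ⟨fun n => (e n).2 inferInstance⟩

/-- The derived category of the opposite category with the same morphism universe. -/
@[instance_reducible]
noncomputable def hasDerivedCategoryOp [HasDerivedCategory.{v} A] : HasDerivedCategory.{v} Aᵒᵖ where
  D := (DerivedCategory A)ᵒᵖ
  L := (CochainComplex.opEquivalence A).inverse ⋙ DerivedCategory.Q.op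
  hL := Functor.IsLocalization.of_equivalence_source (DerivedCategory.Q (C := A)).op
    (HomologicalComplex.quasiIso A (ComplexShape.up ℤ)).op _ _ (CochainComplex.opEquivalence A)
    (fun _ _ f hf => MorphismProperty.le_isoClosure _ _
      ((HomologicalComplex.mem_quasiIso_iff _).2
        ((quasiIso_opEquivalence_functor_map A f.unop).2 ((HomologicalComplex.mem_quasiIso_iff _).1 hf))))
    (fun K L g hg => by
      let E := CochainComplex.opEquivalence A
      have h : QuasiIso (E.functor.map (E.inverse.map g)) := by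
        have e := E.counitIso.hom.naturality g
        simp only [Functor.comp_map, Functor.id_map] at e
        haveI : QuasiIso g := (HomologicalComplex.mem_quasiIso_iff _).1 hg
        haveI : QuasiIso (E.functor.map (E.inverse.map g) ≫ E.counitIso.hom.app L) := by
          rw [e]; infer_instance
        exact quasiIso_of_comp_right _ (E.counitIso.hom.app L)
      haveI : QuasiIso (E.inverse.map g).unop := (quasiIso_opEquivalence_functor_map A _).1 h
      exact inferInstanceAs (IsIso (DerivedCategory.Q.map (E.inverse.map g).unop).op))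
    ((Functor.associator _ _ _).symm ≪≫ Functor.isoWhiskerRight (CochainComplex.opEquivalence A).unitIso.symm _ ≪≫
      Functor.leftUnitor _)

variable {A}

/-- The spectral sequence of a resolution, with a derived category of small morphism types given. -/
theorem exists_resolution_spectralSequence' [HasDerivedCategory.{v} A] [HasExt.{v} A] (Z F : A)
    (K : CochainComplex A ℤ) [K.IsStrictlyGE 0]
    (η : (HomologicalComplex.single A (ComplexShape.up ℤ) 0).obj F ⟶ K) [QuasiIso η]
    (H : ℤ → AddCommGrpCat.{v})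
    (e : ∀ n, Nonempty ((if 0 ≤ n then AddCommGrpCat.of (Ext.{v} Z F n.toNat)
      else AddCommGrpCat.of PUnit.{v + 1}) ≅ H n)) :
    ∃ (E : CohomologicalSpectralSequence AddCommGrpCat.{v} 1) (a : SpSeq.Abutment E H),
      (∀ n, a.IsFinite n) ∧ SpSeq.IsBounded E ∧
      ∀ p q : ℤ, Nonempty ((E.page 1 le_rfl).X (p, q) ≅
        if 0 ≤ p ∧ 0 ≤ q then AddCommGrpCat.of (Ext.{v} Z (K.X p) q.toNat) else AddCommGrpCat.of PUnit.{v + 1}) := by
  obtain ⟨E, a, ha, hb, hE, hz⟩ := exists_E₁spectralSequence (isE₁FirstQuadrant_homSpectral K Z) _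
    (fun n => (nonempty_total_iso_ext K Z F η n).some ≪≫ (e n).some)
  refine ⟨E, a, ha, hb, fun p q => ?_⟩
  by_cases h : 0 ≤ p ∧ 0 ≤ q
  · rw [if_pos h]
    exact ⟨(hE p q).some ≪≫ (nonempty_page_iso_ext K Z p q h.2).some⟩
  · rw [if_neg h]
    exact ⟨(hz p q (by lia)).iso (AddCommGrpCat.isZero_of_subsingleton _)⟩

section ExtOp

variable [EnoughInjectives A] [HasExt.{v} A] [HasExt.{v} Aᵒᵖ]

/-- Degree-zero comparison. -/
noncomputable def extOpZero (Y F : A) : Ext.{v} (op F) (op Y) 0 ≃+ Ext.{v} Y F 0 :=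
  Ext.addEquiv₀.trans ((AddEquiv.mk' (opEquiv (op F) (op Y)) fun _ _ => rfl).trans Ext.addEquiv₀.symm)

omit [EnoughInjectives A] in
lemma extOpZero_mk₀ {Y F : A} (f : op F ⟶ op Y) : extOpZero Y F (Ext.mk₀ f) = Ext.mk₀ f.unop := by
  have h : Ext.addEquiv₀ (Ext.mk₀ f) = f := Ext.addEquiv₀.apply_symm_apply f
  simp [extOpZero, h]
  rfl

theorem nonempty_extOp_equiv (Y : A) : ∀ (n : ℕ) (F : A), Nonempty (Ext.{v} (op F) (op Y) n ≃+ Ext.{v} Y F n) := by
  intro n
  induction n with
  | zero => exact fun F => ⟨extOpZero Y F⟩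
  | succ n ih =>
    intro F
    let S := Groth.SiteCohomology.injSES F
    have hS : S.ShortExact := Groth.SiteCohomology.injSES_shortExact F
    have hSo : S.op.ShortExact := hS.op
    haveI hI : Injective S.X₂ := inferInstanceAs (Injective (Injective.under F))
    haveI : Projective S.op.X₂ := inferInstanceAs (Projective (op S.X₂))
    let δ : Ext.{v} Y S.X₃ n →+ Ext.{v} Y F (n + 1) := hS.extClass.postcomp Y rfl
    let δ' : Ext.{v} (op S.X₃) (op Y) n →+ Ext.{v} (op F) (op Y) (n + 1) :=
      hSo.extClass.precomp (op Y) (Nat.add_comm 1 n)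
    have hδ : Function.Surjective δ := fun e => by
      obtain ⟨x, hx⟩ := Ext.covariant_sequence_exact₁ Y hS e (Ext.eq_zero_of_injective _) (rfl : n + 1 = n + 1)
      exact ⟨x, hx⟩
    have hδ' : Function.Surjective δ' := fun e => by
      obtain ⟨x, hx⟩ := Ext.contravariant_sequence_exact₃ hSo (op Y) e (Ext.eq_zero_of_projective _) (Nat.add_comm 1 n)
      exact ⟨x, hx⟩
    obtain ⟨e, hker⟩ : ∃ e : Ext.{v} (op S.X₃) (op Y) n ≃+ Ext.{v} Y S.X₃ n,
        ∀ x, δ' x = 0 ↔ δ (e x) = 0 := by
      cases n with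
      | zero =>
        refine ⟨extOpZero Y S.X₃, fun x => ⟨fun h => ?_, fun h => ?_⟩⟩
        · obtain ⟨w, hw⟩ := Ext.contravariant_sequence_exact₁ hSo (op Y) x (Nat.add_comm 1 0) h
          obtain ⟨w, rfl⟩ := (Ext.mk₀_bijective _ _).2 w
          rw [← hw]
          have : extOpZero Y S.X₃ ((Ext.mk₀ S.op.f).comp (Ext.mk₀ w) (zero_add 0)) =
              (Ext.mk₀ w.unop).comp (Ext.mk₀ S.g) (zero_add 0) := by
            refine (congrArg _ (Ext.mk₀_comp_mk₀ _ _)).trans (Eq.trans ?_ (Ext.mk₀_comp_mk₀ _ _).symm)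
            exact extOpZero_mk₀ (Y := Y) (F := S.X₃) _
          change (extOpZero Y S.X₃ _).comp hS.extClass (rfl : 0 + 1 = 0 + 1) = 0
          erw [this]
          exact (Ext.comp_assoc_of_second_deg_zero _ _ _ _).trans
            ((congrArg (fun z => Ext.comp _ z _) hS.comp_extClass).trans (Ext.comp_zero _ _ _ _ _))
        · obtain ⟨w, hw⟩ := Ext.covariant_sequence_exact₃ Y hS (extOpZero Y S.X₃ x) rfl h
          obtain ⟨w, rfl⟩ := (Ext.mk₀_bijective _ _).2 w
          have hx : x = (Ext.mk₀ S.op.f).comp (Ext.mk₀ w.op) (zero_add 0) := by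
            refine (extOpZero Y S.X₃).injective (hw.symm.trans ?_)
            refine (Ext.mk₀_comp_mk₀ _ _).trans (Eq.trans ?_ (congrArg _ (Ext.mk₀_comp_mk₀ _ _)).symm)
            exact (extOpZero_mk₀ (Y := Y) (F := S.X₃) _).symm
          rw [hx]
          change hSo.extClass.comp _ (Nat.add_comm 1 0) = 0
          exact hSo.extClass_comp_assoc _
      | succ m =>
        obtain ⟨e⟩ := ih S.X₃
        refine ⟨e, fun x => ⟨fun h => ?_, fun h => ?_⟩⟩
        · obtain ⟨w, hw⟩ := Ext.contravariant_sequence_exact₁ hSo (op Y) x (Nat.add_comm 1 (m + 1)) h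
          have hx : x = 0 := by rw [← hw, Ext.eq_zero_of_projective w, Ext.comp_zero]; rfl
          rw [hx, map_zero, map_zero]
        · obtain ⟨w, hw⟩ := Ext.covariant_sequence_exact₃ Y hS (e x) rfl h
          rw [show x = 0 from e.injective (by rw [map_zero, ← hw, Ext.eq_zero_of_injective w, Ext.zero_comp]),
            map_zero]
    let ψ : Ext.{v} (op S.X₃) (op Y) n →+ Ext.{v} Y F (n + 1) := δ.comp e.toAddMonoidHom
    have hψ : Function.Surjective ψ := hδ.comp e.surjective
    have hk : δ'.ker = ψ.ker := by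
      ext x
      exact hker x
    exact ⟨((QuotientAddGroup.quotientKerEquivOfSurjective δ' hδ').symm.trans
      (QuotientAddGroup.quotientAddEquivOfEq hk)).trans (QuotientAddGroup.quotientKerEquivOfSurjective ψ hψ)⟩

end ExtOp

section Resolution

open Groth.SiteCohomology

variable [HasDerivedCategory.{v} A] [HasExt.{v} A]

/-- The spectral sequence of an exact sequence `0 → F → K 0 → K 1 → ⋯`. -/
theorem exists_spectralSequence_of_isResolution (Z F : A) (K : ℕ → A) (d : ∀ n, K n ⟶ K (n + 1)) (ι : F ⟶ K 0)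
    (h : AcyclicRes.IsResolution K d ι) (H : ℤ → AddCommGrpCat.{v})
    (eH : ∀ n, Nonempty ((if 0 ≤ n then AddCommGrpCat.of (Ext.{v} Z F n.toNat)
      else AddCommGrpCat.of PUnit.{v + 1}) ≅ H n)) :
    ∃ (E : CohomologicalSpectralSequence AddCommGrpCat.{v} 1) (a : SpSeq.Abutment E H),
      (∀ n, a.IsFinite n) ∧ SpSeq.IsBounded E ∧
      ∀ p q : ℤ, Nonempty ((E.page 1 le_rfl).X (p, q) ≅
        if 0 ≤ p ∧ 0 ≤ q then AddCommGrpCat.of (Ext.{v} Z (K p.toNat) q.toNat)
        else AddCommGrpCat.of PUnit.{v + 1}) := by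
  let C : CochainComplex A ℕ := CochainComplex.of K d h.zero
  have hd : ∀ n, C.d n (n + 1) = d n := fun n => CochainComplex.of_d K d n
  let φ := (CochainComplex.fromSingle₀Equiv C F).symm ⟨ι, (congrArg (ι ≫ ·) (hd 0)).trans h.zero₀⟩
  have hφ : QuasiIso φ := by
    refine ⟨fun n => ?_⟩
    cases n with
    | zero =>
      rw [CochainComplex.quasiIsoAt₀_iff, ShortComplex.quasiIso_iff_of_zeros _ (by simp <;> rfl) (by simp <;> rfl)
        (by simp <;> rfl)]
      refine ⟨(ShortComplex.exact_iff_of_iso ?_).1 h.exact₀, ?_⟩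
      · exact ShortComplex.isoMk (Iso.refl _) (Iso.refl _) (Iso.refl _)
          (by simp [φ]; exact (Category.id_comp _).trans (Category.comp_id _).symm)
          (by simp [hd]; exact (Category.id_comp _).trans (Category.comp_id _).symm)
      · haveI := h.mono
        simp [φ]
        exact ‹Mono ι›
    | succ n =>
      rw [quasiIsoAt_iff_exactAt _ _ (HomologicalComplex.exactAt_single_obj _ _ _ _ (by omega)),
        HomologicalComplex.exactAt_iff' _ n (n + 1) (n + 1 + 1) (by simp) (by simp)]
      refine (ShortComplex.exact_iff_of_iso ?_).1 (h.exact n)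
      exact ShortComplex.isoMk (Iso.refl _) (Iso.refl _) (Iso.refl _)
        ((Category.id_comp _).trans ((hd n).trans (Category.comp_id _).symm))
        ((Category.id_comp _).trans ((hd (n + 1)).trans (Category.comp_id _).symm))
  let e := ComplexShape.embeddingUpNat
  let η : (HomologicalComplex.single _ (ComplexShape.up ℤ) 0).obj F ⟶ C.extend e :=
    (HomologicalComplex.extendSingleIso (X := F) e (i := 0) (i' := (0 : ℤ)) rfl).inv ≫ HomologicalComplex.extendMap φ e
  haveI : QuasiIso (HomologicalComplex.extendMap φ e) := (HomologicalComplex.quasiIso_extendMap_iff φ e).2 hφ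
  haveI : CochainComplex.IsStrictlyGE (C.extend e) 0 :=
    (CochainComplex.isStrictlyGE_iff _ _).2 fun i hi =>
      C.isZero_extend_X e i fun j hj => by simp [e] at hj; omega
  obtain ⟨E, a, ha, hb, hE⟩ := exists_resolution_spectralSequence' Z F _ η H eH
  refine ⟨E, a, ha, hb, fun p q => ?_⟩
  obtain ⟨i⟩ := hE p q
  by_cases hpq : 0 ≤ p ∧ 0 ≤ q
  · rw [if_pos hpq] at i ⊢
    obtain ⟨p, rfl⟩ := Int.eq_ofNat_of_zero_le hpq.1
    rw [Int.toNat_natCast]
    exact ⟨i ≪≫ (Groth.SiteCohomology.extIsoRight (C.extendXIso e (i := p) (i' := (p : ℤ)) rfl) _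
      q.toNat).toAddCommGrpIso⟩
  · rw [if_neg hpq] at i ⊢
    exact ⟨i⟩

end Resolution

end Groth.Agent.CohDescent
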