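import Mathlib
import Groth.Agent.CohDescent.OpDerived
import Groth.Agent.CohDescent.LocalHomeoFree

/-!
The descent spectral sequence of a surjective local homeomorphism.
-/

set_option autoImplicit false
universe u

open CategoryTheory CategoryTheory.Limits Opposite TopologicalSpace Simplicial
open CategoryTheory.Abelian
open Groth.SiteCohomology

namespace Groth.Agent.CohDescent

variable {X S : TopCat.{u}} (f : X ⟶ S)

/-- The structure map of a fibre power. -/
noncomputable abbrev powBase (p : ℕ) : widePullback S (fun _ : Fin (p + 1) => X) (fun _ => f) ⟶ S :=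
  WidePullback.base (fun _ : Fin (p + 1) => f)

lemma apply_π (p : ℕ) (i : Fin (p + 1)) (z : ↑(widePullback S (fun _ : Fin (p + 1) => X) fun _ => f)) :
    f (WidePullback.π (fun _ : Fin (p + 1) => f) i z) = powBase f p z :=
  ConcreteCategory.congr_hom (WidePullback.π_arrow (fun _ : Fin (p + 1) => f) i) z

lemma exists_powLift (p : ℕ) {V : Opens S} (s : Fin (p + 1) → (secs f ⊤).obj (op V)) :
    ∃ t : (secs (powBase f p) ⊤).obj (op V), ∀ i v, WidePullback.π (fun _ : Fin (p + 1) => f) i (t.1 v) = (s i).1 v := by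
  let b : TopCat.of V ⟶ S := TopCat.ofHom ⟨fun v => v.1, continuous_subtype_val⟩
  let l := WidePullback.lift (arrows := fun _ : Fin (p + 1) => f) b (fun i => TopCat.ofHom (s i).1)
    fun i => TopCat.hom_ext (ContinuousMap.ext fun v => (s i).2.1 v)
  exact ⟨⟨l.hom, fun v => ConcreteCategory.congr_hom
      (WidePullback.lift_base (arrows := fun _ : Fin (p + 1) => f) b _ _) v, fun _ => trivial⟩,
    fun i v => ConcreteCategory.congr_hom (WidePullback.lift_π (arrows := fun _ : Fin (p + 1) => f) b _ _ i) v⟩

variable {f} (hf : IsLocalHomeomorph f)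
include hf

theorem isLocalHomeomorph_powBase (p : ℕ) : IsLocalHomeomorph (powBase f p) := by
  refine isLocalHomeomorph_iff_isOpenEmbedding_restrict.2 fun y => ?_
  choose e hye he using fun i : Fin (p + 1) => hf (WidePullback.π (fun _ : Fin (p + 1) => f) i y)
  let V : Opens S := ⟨⋂ i, (e i).target, isOpen_iInter_of_finite fun i => (e i).open_target⟩
  let Wy : Set ↑(widePullback S (fun _ : Fin (p + 1) => X) fun _ => f) :=
    (⋂ i, (WidePullback.π (fun _ : Fin (p + 1) => f) i) ⁻¹' (e i).source) ∩ (powBase f p) ⁻¹' V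
  have hWy : IsOpen Wy := (isOpen_iInter_of_finite fun i => (e i).open_source.preimage
    (WidePullback.π (fun _ : Fin (p + 1) => f) i).hom.continuous).inter (V.2.preimage (powBase f p).hom.continuous)
  have hyV : powBase f p y ∈ V := Set.mem_iInter.2 fun i => by
    rw [← apply_π f p i, he i]
    exact (e i).map_source (hye i)
  refine ⟨Wy, hWy.mem_nhds ⟨Set.mem_iInter.2 hye, hyV⟩, ?_⟩
  let s : Fin (p + 1) → (secs f ⊤).obj (op V) := fun i =>
    ⟨⟨fun v => (e i).symm v.1, (e i).continuousOn_symm.comp_continuous continuous_subtype_val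
      fun v => Set.mem_iInter.1 v.2 i⟩, fun v => by
        change f ((e i).symm v.1) = v.1
        rw [he i]
        exact (e i).right_inv (Set.mem_iInter.1 v.2 i), fun _ => trivial⟩
  obtain ⟨t, ht⟩ := exists_powLift f p s
  have htW : ∀ v, t.1 v ∈ Wy := fun v => ⟨Set.mem_iInter.2 fun i => by
    change WidePullback.π (fun _ : Fin (p + 1) => f) i (t.1 v) ∈ (e i).source
    rw [ht]
    exact (e i).map_target (Set.mem_iInter.1 v.2 i), by
    change powBase f p (t.1 v) ∈ V
    rw [t.2.1]
    exact v.2⟩
  let h : Wy ≃ₜ (V : Set S) :=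
    { toFun := fun z => ⟨powBase f p z.1, z.2.2⟩
      invFun := fun v => ⟨t.1 v, htW v⟩
      left_inv := fun z => by
        refine Subtype.ext (Concrete.widePullback_ext' _ _ _ fun i => ?_)
        refine (ht i _).trans ((e i).injOn ((e i).map_target (Set.mem_iInter.1 z.2.2 i))
          (Set.mem_iInter.1 z.2.1 i) ?_)
        rw [(e i).right_inv (Set.mem_iInter.1 z.2.2 i), ← he i, apply_π]
      right_inv := fun v => Subtype.ext (t.2.1 v)
      continuous_toFun := ((powBase f p).hom.continuous.comp continuous_subtype_val).subtype_mk _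
      continuous_invFun := t.1.continuous.subtype_mk _ }
  exact V.2.isOpenEmbedding_subtypeVal.comp h.isOpenEmbedding

variable (f)

omit hf in
/-- The augmented Čech object of presheaves of sections. -/
noncomputable def secsNerve : SimplicialObject.Augmented ((Opens S)ᵒᵖ ⥤ Type u) where
  left :=
    { obj := fun n =>
        { obj := fun V => Fin (n.unop.len + 1) → (secs f ⊤).obj V
          map := fun i => ↾fun s k => (secs f ⊤).map i (s k) }
      map := fun θ =>
        { app := fun _ => ↾fun s k => s (θ.unop.toOrderHom k) } }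
  right := yoneda.obj (⊤ : Opens S)
  hom := { app := fun n => { app := fun V => ↾fun _ => homOfLE le_top } }

omit hf in
lemma isCechTypePresheaf_secsNerve : IsCechTypePresheaf (secsNerve f) := fun c =>
  { ext := fun n x y h => funext fun i => congrFun (h i) 0
    lift := fun n t _ => ⟨fun i => t i 0, fun i => funext fun k => by
      obtain rfl : k = 0 := Subsingleton.elim (α := Fin 1) _ _
      rfl⟩ }

theorem isLocallySurjective_secsNerve (hsurj : Function.Surjective f) :
    Presheaf.IsLocallySurjective (Opens.grothendieckTopology S) ((secsNerve f).hom.app (op ⦋0⦌)) where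
  imageSieve_mem {U} a x hx := by
    obtain ⟨y, rfl⟩ := hsurj x
    obtain ⟨V, s, hxV, -⟩ := exists_secs_through hf ⊤ (trivial : y ∈ (⊤ : Opens X))
    exact ⟨U ⊓ V, homOfLE inf_le_left, ⟨fun _ => (secs f ⊤).map (homOfLE inf_le_right).op s, Subsingleton.elim (α := U ⊓ V ⟶ (⊤ : Opens S)) _ _⟩,
      ⟨hx, hxV⟩⟩

omit hf in
/-- The sections of a fibre power are the tuples of sections. -/
noncomputable def powSecsIso (p : ℕ) : secs (powBase f p) ⊤ ≅ (secsNerve f).left.obj (op ⦋p⦌) :=
  NatIso.ofComponents (fun V =>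
    Equiv.toIso
      { toFun := fun t i => ⟨(WidePullback.π (fun _ : Fin (p + 1) => f) i).hom.comp t.1,
          fun v => (apply_π f p i _).trans (t.2.1 v), fun _ => trivial⟩
        invFun := fun s => (exists_powLift f p s).choose
        left_inv := fun t => Subtype.ext (ContinuousMap.ext fun v =>
          Concrete.widePullback_ext' _ _ _ fun i => (exists_powLift f p _).choose_spec i v)
        right_inv := fun s => funext fun i => Subtype.ext (ContinuousMap.ext fun v =>
          (exists_powLift f p s).choose_spec i v) })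
    fun _ => rfl

omit hf in
lemma isResolution_op {A : Type (u + 1)} [Category.{u} A] [Abelian A] (K : ℕ → A) (d : ∀ n, K (n + 1) ⟶ K n) {Z : A}
    (ε : K 0 ⟶ Z) (h : AcyclicRes.IsResolution' K d ε) :
    AcyclicRes.IsResolution (fun n => op (K n)) (fun n => (d n).op) ε.op where
  mono := haveI := h.epi; inferInstance
  zero₀ := by rw [← op_comp, h.zero₀, op_zero]
  exact₀ := h.exact₀.op
  zero n := by rw [← op_comp, h.zero, op_zero]
  exact n := (h.exact n).op

theorem exists_localHomeomorph_descent_spectralSequence (hsurj : Function.Surjective f) (F : CohTop.Ab S) :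
    ∃ (E : CohomologicalSpectralSequence AddCommGrpCat.{u} 1)
      (a : SpSeq.Abutment E (fun n : ℤ =>
        if 0 ≤ n then AddCommGrpCat.of (CohTop.H F n.toNat) else AddCommGrpCat.of PUnit.{u + 1})),
      (∀ n, a.IsFinite n) ∧ SpSeq.IsBounded E ∧
      ∀ p q : ℤ, Nonempty ((E.page 1 le_rfl).X (p, q) ≅
        (if 0 ≤ p ∧ 0 ≤ q then
          AddCommGrpCat.of (CohTop.H ((CohTop.pull (powBase f p.toNat)).obj F) q.toNat)
         else AddCommGrpCat.of PUnit.{u + 1})) := by
  let A := CohTop.Ab S
  let J := Opens.grothendieckTopology S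
  letI : HasDerivedCategory.{u} A := hasSmallDerivedCategory A
  letI : HasDerivedCategory.{u} Aᵒᵖ := hasDerivedCategoryOp A
  haveI : HasExt.{u} Aᵒᵖ := hasExt_of_hasDerivedCategory Aᵒᵖ
  let P := secsNerve f
  haveI := isLocallySurjective_secsNerve f hf hsurj
  have hres := isResolution_op _ _ _
    (isAugResolution_freeSh J P (isCechTypePresheaf_secsNerve f))
  obtain ⟨E, a, ha, hb, hE⟩ := exists_spectralSequence_of_isResolution (op F) _ _ _ _ hres
    (fun n : ℤ => if 0 ≤ n then AddCommGrpCat.of (CohTop.H F n.toNat) else AddCommGrpCat.of PUnit.{u + 1})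
    (fun n => by
      by_cases hn : 0 ≤ n
      · rw [if_pos hn, if_pos hn]
        obtain ⟨e⟩ := nonempty_extOp_equiv ((freeSh J).obj (yoneda.obj (⊤ : Opens S))) n.toNat F
        exact ⟨AddEquiv.toAddCommGrpIso (e.trans (HUTopEquiv F n.toNat))⟩
      · rw [if_neg hn, if_neg hn]
        exact ⟨Iso.refl _⟩)
  refine ⟨E, a, ha, hb, fun p q => ?_⟩
  obtain ⟨i⟩ := hE p q
  by_cases h : 0 ≤ p ∧ 0 ≤ q
  · rw [if_pos h] at i ⊢
    obtain ⟨e₁⟩ := nonempty_extOp_equiv ((freeSh J).obj (P.left.obj (op ⦋p.toNat⦌))) q.toNat F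
    obtain ⟨e₂⟩ := nonempty_ext_freeSecs_equiv (isLocalHomeomorph_powBase hf p.toNat) F q.toNat
    exact ⟨i ≪≫ AddEquiv.toAddCommGrpIso
      ((e₁.trans (extIsoLeft ((freeSh J).mapIso (powSecsIso f p.toNat)) F q.toNat)).trans e₂)⟩
  · rw [if_neg h] at i ⊢
    exact ⟨i⟩

end Groth.Agent.CohDescent
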